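import Cfsg.Agent.H876.L64.TFive_m3
import Mathlib
import Cfsg.Agent.BpExc.AsmN_m3
import Cfsg.Agent.H942.E8Val
import Cfsg.Agent.H955.L64.Irr
import Cfsg.Agent.H939.L64.Base
import Cfsg.Agent.Lib.ListFast
import Cfsg.Agent.H179.SLC.Coc_m3
import Cfsg.Agent.ClassicalGeometry.PSL2Basic
import Cfsg.Agent.Prune
set_option linter.all false

section
prune_inst 0x7ffffffcbbbeffffffff7e7fa6dceffc3b931fffe6dff943ffe069ff0bbf939209c5fbad0de030fe0ed6e01418b87853fb7eefffea6bdc7ffffd5ff41ffbee4ff5f7b50851d48c340f380fff83f0778e7f3fffffffffdfffffffffffffffffbeffbfffffffff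

-- part: H413/L64/TFour
section
prune_inst 0x144000000000001805903100180282000000000b8000e060030406808c6380002e21b810030000ea24441038400811000059420000000a000200011b00800000100291080108200000808882000000000000000000000000000000000004000000000
set_option linter.all false
open scoped Cfsg.Agent.FastGrp

/-!
# S5915, T4: a nondegenerate subalgebra containing the Lie centraliser of `y` is stable under the torus of `y` (helper413)

In characteristic two the weights of the Cartan subalgebra `t₀` on the root vectors are pairwise distinct up to `r ↦ -r`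
and non-zero.  So a subalgebra containing `t₀` is the sum of `t₀` and of subspaces of the `⟨e_r, e_{-r}⟩`, and if it is
nondegenerate these subspaces are `0` or the whole space.
-/

set_option autoImplicit false
set_option linter.unusedSectionVars false
set_option maxRecDepth 100000

namespace Cfsg.Agent.H413.L64

open Cfsg Cfsg.Lie Cfsg.Lie.ChevalleyDatum
open Cfsg.Agent.ChevalleyStructure Cfsg.Agent.ChevalleyStructure.CoxeterGeom
  Cfsg.Agent.ChevalleyStructure.Elts Cfsg.Agent.ChevalleyStructure.CoxeterGeomTypes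
open Cfsg.Agent.Tits.Roots Cfsg.Agent.Nodes.Reps Cfsg.Agent.Nodes.BNOf Cfsg.Agent.Nodes.RGDChev
  Cfsg.Agent.KFacts.RgdChevCoord
open Cfsg.Agent.BpExc.TorChev Cfsg.Agent.BpExc.FamInst Cfsg.Agent.H129.TorusChar
open Cfsg.Agent.H942.E8Tab Cfsg.Agent.H944.RootVals Cfsg.Agent.H944.Kac
open Cfsg.Agent.ChevalleyStructure.RootVec (rt)
open Cfsg.Agent.ChevalleyStructure.Columns (car)
open Cfsg.Agent.H876.L64 (aK_mul aK_one aK_inv aK_inv' aK_add aK_smul aK_zero aK_tor aK_brK fix_iff h_br two_zero)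
open Cfsg.Agent.H939.L64

namespace TFour

/-! ### tables -/

/-- the weights modulo 2 as numbers -/
def CL : List ℕ := [
  128, 192, 96, 48, 24, 14, 7, 6, 15, 25, 49, 97, 193, 129, 3, 11, 29, 53, 101, 197, 133, 20, 60, 108, 204, 140,
  42, 122, 218, 154, 82, 242, 178, 162, 226, 66, 34, 114, 210, 146, 90, 250, 186, 170, 234, 74, 76, 236, 172, 188,
  252, 92, 148, 212, 116, 36, 69, 229, 165, 181, 245, 85, 157, 221, 125, 45, 139, 203, 107, 59, 19, 131, 195, 99,
  51, 27, 13, 4, 65, 225, 161, 177, 241, 81, 153, 217, 121, 41, 143, 207, 111, 63, 23, 134, 198, 102, 54, 30, 8,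
  135, 199, 103, 55, 31, 9, 142, 206, 110, 62, 22, 152, 216, 120, 40, 176, 240, 80, 224, 160, 64, 64, 160, 224,
  80, 240, 176, 40, 120, 216, 152, 22, 62, 110, 206, 142, 9, 31, 55, 103, 199, 135, 8, 30, 54, 102, 198, 134, 23,
  63, 111, 207, 143, 41, 121, 217, 153, 81, 241, 177, 161, 225, 65, 4, 13, 27, 51, 99, 195, 131, 19, 59, 107, 203,
  139, 45, 125, 221, 157, 85, 245, 181, 165, 229, 69, 36, 116, 212, 148, 92, 252, 188, 172, 236, 76, 74, 234, 170,
  186, 250, 90, 146, 210, 114, 34, 66, 226, 162, 178, 242, 82, 154, 218, 122, 42, 140, 204, 108, 60, 20, 133, 197,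
  101, 53, 29, 11, 3, 129, 193, 97, 49, 25, 15, 6, 7, 14, 24, 48, 96, 192, 128]

/-- the root with a given weight -/
def PL : List ℕ := [
  240, 240, 240, 14, 77, 240, 7, 6, 98, 104, 240, 15, 240, 76, 5, 8, 240, 240, 240, 70, 21, 240, 109, 92, 4, 9,
  240, 75, 240, 16, 97, 103, 240, 240, 36, 240, 55, 240, 240, 240, 113, 87, 26, 240, 240, 65, 240, 240, 3, 10,
  240, 74, 240, 17, 96, 102, 240, 240, 240, 69, 22, 240, 108, 91, 119, 78, 35, 240, 240, 56, 240, 240, 240, 240,
  45, 240, 46, 240, 240, 240, 116, 83, 30, 240, 240, 61, 240, 240, 240, 240, 40, 240, 51, 240, 240, 240, 2, 11,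
  240, 73, 240, 18, 95, 101, 240, 240, 240, 68, 23, 240, 107, 90, 240, 240, 37, 240, 54, 240, 240, 240, 112, 86,
  27, 240, 240, 64, 240, 240, 0, 13, 240, 71, 240, 20, 93, 99, 240, 240, 240, 66, 25, 240, 105, 88, 240, 240, 39,
  240, 52, 240, 240, 240, 110, 84, 29, 240, 240, 62, 240, 240, 118, 80, 33, 240, 240, 58, 240, 240, 240, 240, 43,
  240, 48, 240, 240, 240, 114, 81, 32, 240, 240, 59, 240, 240, 240, 240, 42, 240, 49, 240, 240, 240, 1, 12, 240,
  72, 240, 19, 94, 100, 240, 240, 240, 67, 24, 240, 106, 89, 240, 240, 38, 240, 53, 240, 240, 240, 111, 85, 28,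
  240, 240, 63, 240, 240, 117, 79, 34, 240, 240, 57, 240, 240, 240, 240, 44, 240, 47, 240, 240, 240, 115, 82, 31,
  240, 240, 60, 240, 240, 240, 240, 41, 240, 50, 240, 240, 240]

/-- the weight modulo 2 as a number -/
def code (s : ℕ) : ℕ := CL.getD s 0

private def tb (t s : ℕ) : ℕ := t >>> (8 * s) % 256

private theorem getD_tb {L : List ℕ} {t n : ℕ} (h : L = (List.range n).map (tb t)) :
    (fun s => L.getD s 0) = fun s => if s < n then tb t s else 0 := by
  funext s
  rw [h, List.getD_eq_getElem?_getD, List.getElem?_map]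
  split_ifs with k
  · rw [List.getElem?_range k]
    rfl
  · rw [List.getElem?_eq_none (by rw [List.length_range]; omega)]
    rfl

theorem chkP : ((List.range 240).all fun s => decide (CL.getD s 0 ≠ 0 ∧ CL.getD s 0 < 256 ∧
    CL.getD (239 - s) 0 = CL.getD s 0) && (PL.getD (CL.getD s 0) 0 == s || 239 - PL.getD (CL.getD s 0) 0 == s)) = true := by
  have e : ∀ g h : ℕ → ℕ, (g = fun s => if s < 240 then tb
      0x80c06030180e07060f193161c181030b1d3565c585143c6ccc8c2a7ada9a52f2b2a2e2422272d2925afabaaaea4a4cecacbcfc5c94d4742445e5a5b5f5559ddd7d2d8bcb6b3b1383c363331b0d0441e1a1b1f15199d979298fcf6f3f1786c666361e0887c767371f098ece6e3e1698d87828b0f050e0a04040a0e050f0b02878d898163e6ece8e091f3767c787081e3666c686173f6fcf8f2979d99951f1b1a1e141040d1b3363c383133b6bcb8b2d7ddd9d55f5b5a5e5452474d4945cfcbcacec4c4aeaaabafa5a92d2722242e2a2b2f2529ada7a2a8ccc6c3c1485c565351d0b0381c16131190f06070e183060c080 s else 0) →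
      (h = fun s => if s < 256 then tb
      0xf0f0f032f029f0f0f0f03cf0f01f5273f0f0f02ff02cf0f0f0f039f0f0224f75f0f03ff0f01c556ff0f0f035f026f0f0596af01843f0f0f0645e13f048f00c01f0f0f031f02af0f0f0f03bf0f0205172f0f0f030f02bf0f0f0f03af0f0215076f0f03ef0f01d546ef0f0f034f027f0f05869f01942f0f0f0635d14f047f00d00f0f040f0f01b5670f0f0f036f025f0f05a6bf01744f0f0f0655f12f049f00b02f0f0f033f028f0f0f0f03df0f01e5374f0f0f02ef02df0f0f0f038f0f0234e775b6cf01645f0f0f0666011f04af00a03f0f041f0f01a5771f0f0f037f024f0f0676110f04bf009045c6df01546f0f0f008054cf00ff068620607f04d0ef0f0f0 s else 0) →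
      ((List.range 240).all fun s => decide (g s ≠ 0 ∧ g s < 256 ∧ g (239 - s) = g s) &&
        (h (g s) == s || 239 - h (g s) == s)) = true := by
    rintro _ _ rfl rfl
    decide +kernel
  exact e (fun s => CL.getD s 0) (fun s => PL.getD s 0) (getD_tb (by decide +kernel)) (getD_tb (by decide +kernel))

theorem chkR : ((List.range 8).all fun i => (chevE8.cartanSR.getD i #[]).toList.map (fun a => decide (a % 2 ≠ 0)) ==
    CL.map (fun c => c.testBit i)) = true := by decide +kernel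

theorem lenCL : CL.length = 240 := by decide +kernel

theorem par {i s : ℕ} (hi : i < 8) (hs : s < 240) : (code s).testBit i = decide (car chevE8 i s % 2 ≠ 0) := by
  have h := beq_iff_eq.1 (List.all_eq_true.1 chkR i (List.mem_range.2 hi))
  have h1 := congrArg (fun l : List Bool => l[s]?) h
  simp only [List.getElem?_map] at h1
  have h2 : CL[s]? = some (code s) := by
    unfold code
    rw [List.getD_eq_getElem?_getD, List.getElem?_eq_getElem (by rw [lenCL]; exact hs)]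
    rfl
  rw [h2, Array.getElem?_toList] at h1
  unfold car
  rw [Array.getD_eq_getD_getElem?]
  cases h3 : (chevE8.cartanSR.getD i #[])[s]? with
  | none => rw [h3] at h1; exact absurd h1 (by simp)
  | some a =>
    rw [h3] at h1
    exact (Option.some.inj h1).symm

theorem code_spec {s : ℕ} (hs : s < 240) : (code s ≠ 0 ∧ code s < 256 ∧ code (239 - s) = code s) ∧
    (PL.getD (code s) 0 = s ∨ 239 - PL.getD (code s) 0 = s) := by
  have h := List.all_eq_true.1 chkP s (List.mem_range.2 hs)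
  rw [Bool.and_eq_true, Bool.or_eq_true, beq_iff_eq, beq_iff_eq] at h
  exact ⟨of_decide_eq_true h.1, h.2⟩

theorem code_ne {s : ℕ} (hs : s < 240) : code s ≠ 0 := (code_spec hs).1.1

theorem code_eq {s s' : ℕ} (hs : s < 240) (hs' : s' < 240) (h : code s = code s') : s' = s ∨ s' = 239 - s := by
  have h1 := (code_spec hs).2
  have h2 := (code_spec hs').2
  rw [← h] at h2
  generalize PL.getD (code s) 0 = c at h1 h2
  omega

theorem nroots_eq : chevE8.nroots = 240 := by decide +kernel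

theorem rt_neg' {s : ℕ} (hs : s < 240) (i : Fin 8) : rt chevE8 s i + rt chevE8 (239 - s) i = 0 := by
  have hs' : s < chevE8.nroots := by rw [nroots_eq]; exact hs
  have h1 := Unitriangular.negIdx_add (Unitriangular.orderCheck_of_mem Cfsg.Agent.H876.L64.hE8) hs'
  rw [nroots_eq] at h1
  have h2 : chevE8.neg s = 239 - s := by
    rw [Cfsg.Agent.ChevalleyStructure.CommOrbit.neg_eq_getD]
    omega
  have h3 := congrFun (vec_neg e8T hs') i
  rw [h2, Pi.neg_apply] at h3
  have h4 : rt chevE8 (239 - s) i = - rt chevE8 s i := h3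
  omega

theorem code_congr {s s' : ℕ} (hs : s < 240) (hs' : s' < 240)
    (h : ∀ i < 8, (car chevE8 i s % 2 = 0 ↔ car chevE8 i s' % 2 = 0)) : code s = code s' := by
  refine Nat.eq_of_testBit_eq fun i => ?_
  by_cases hi : i < 8
  · rw [par hi hs, par hi hs', decide_eq_decide]
    exact not_congr (h i hi)
  · have h1 : ∀ {s : ℕ}, s < 240 → (code s).testBit i = false := fun {s} hs =>
      Nat.testBit_lt_two_pow ((code_spec hs).1.2.1.trans_le (Nat.pow_le_pow_right two_pos (not_lt.1 hi)))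
    rw [h1 hs, h1 hs']

theorem code_zero {s : ℕ} (hs : s < 240) (h : ∀ i < 8, car chevE8 i s % 2 = 0) : code s = 0 := by
  refine Nat.eq_of_testBit_eq fun i => ?_
  rw [Nat.zero_testBit]
  by_cases hi : i < 8
  · rw [par hi hs, decide_eq_false_iff_not, not_not]
    exact h i hi
  · exact Nat.testBit_lt_two_pow ((code_spec hs).1.2.1.trans_le (Nat.pow_le_pow_right two_pos (not_lt.1 hi)))

theorem car_neg {s i : ℕ} (hs : s < 240) (hi : i < 8) : car chevE8 i (239 - s) % 2 = 0 ↔ car chevE8 i s % 2 = 0 := by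
  have h1 := par hi hs
  have h2 := par hi (s := 239 - s) (by omega)
  rw [(code_spec hs).1.2.2, h1, decide_eq_decide, not_iff_not] at h2
  exact h2.symm

/-! ### the weight projections -/

/-- the weight in `KK` -/
noncomputable def cK (i : ℕ) : chevE8.Idx → KK := Sum.elim (fun _ => 0) (fun s : Fin chevE8.nroots => ((car chevE8 i s : ℤ) : KK))

theorem int_cast_KK (a : ℤ) : (a : KK) = if a % 2 = 0 then 0 else 1 := by
  have := charKK
  have h2 : (2 : KK) = 0 := two_zero
  split_ifs with h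
  · obtain ⟨b, rfl⟩ := Int.dvd_of_emod_eq_zero h
    push_cast
    rw [h2, zero_mul]
  · obtain ⟨b, hb⟩ : ∃ b, a = 2 * b + 1 := ⟨a / 2, by omega⟩
    rw [hb]
    push_cast
    rw [h2, zero_mul, zero_add]

theorem cK_or (i : ℕ) (k : chevE8.Idx) : cK i k = 0 ∨ cK i k = 1 := by
  rcases k with k | k
  · exact Or.inl rfl
  · show ((car chevE8 i k : ℤ) : KK) = 0 ∨ ((car chevE8 i k : ℤ) : KK) = 1
    rw [int_cast_KK]
    split_ifs
    · exact Or.inl rfl
    · exact Or.inr rfl

theorem fac (i : ℕ) (j k : chevE8.Idx) : (1 + cK i j + cK i k = 1 ∧ cK i j = cK i k) ∨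
    (1 + cK i j + cK i k = 0 ∧ cK i j ≠ cK i k) := by
  have h2 : (1 : KK) + 1 = 0 := by rw [one_add_one_eq_two]; exact two_zero
  rcases cK_or i j with h | h <;> rcases cK_or i k with h' | h' <;> rw [h, h']
  · left; simp
  · right; exact ⟨by rw [add_zero, h2], zero_ne_one⟩
  · right; exact ⟨by rw [add_zero, h2], one_ne_zero⟩
  · left; exact ⟨by rw [h2, zero_add], rfl⟩

/-- one step of the projection -/
noncomputable def stp (j : chevE8.Idx) (i : Fin chevE8.rank) (w : LK) : LK :=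
  (1 + cK i j) • w + brK (Sum.elim (Pi.single i 1) 0) w

theorem stp_apply (j : chevE8.Idx) (i : Fin chevE8.rank) (w : LK) (k : chevE8.Idx) :
    stp j i w k = (1 + cK i j + cK i k) * w k := by
  unfold stp
  rw [Pi.add_apply, Pi.smul_apply, h_br, smul_eq_mul]
  generalize 1 + cK i j = a
  rw [add_mul]
  congr 1
  rcases k with k | k
  · show (0 : KK) = 0 * _
    rw [zero_mul]
  · show (∑ i', (Pi.single i 1 : Fin chevE8.rank → KK) i' * ((car chevE8 i' k : ℤ) : KK)) * w (Sum.inr k) =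
      ((car chevE8 i k : ℤ) : KK) * w (Sum.inr k)
    congr 1
    rw [Finset.sum_eq_single i]
    · rw [Pi.single_eq_same, one_mul]
    · intro b _ hb
      rw [Pi.single_eq_of_ne hb, zero_mul]
    · intro h
      exact absurd (Finset.mem_univ i) h

/-- the projection to the weight space of `j` -/
noncomputable def prj (j : chevE8.Idx) (w : LK) : LK := (List.finRange chevE8.rank).foldr (stp j) w

theorem prj_apply_eq (j : chevE8.Idx) (w : LK) {k : chevE8.Idx} (h : ∀ i : Fin chevE8.rank, cK i j = cK i k) :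
    prj j w k = w k := by
  unfold prj
  induction List.finRange chevE8.rank with
  | nil => rfl
  | cons a l ih =>
    rw [List.foldr_cons, stp_apply, ih]
    rcases fac a j k with h1 | h1
    · rw [h1.1, one_mul]
    · exact absurd (h a) h1.2

theorem prj_apply_ne (j : chevE8.Idx) (w : LK) {k : chevE8.Idx} {i : Fin chevE8.rank} (h : cK i j ≠ cK i k) :
    prj j w k = 0 := by
  unfold prj
  have h0 : i ∈ List.finRange chevE8.rank := List.mem_finRange i
  revert h0
  induction List.finRange chevE8.rank with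
  | nil => intro h0; exact absurd h0 List.not_mem_nil
  | cons a l ih =>
    intro h0
    rw [List.foldr_cons, stp_apply]
    rcases List.mem_cons.1 h0 with rfl | h0
    · rcases fac i j k with h1 | h1
      · exact absurd h1.2 h
      · rw [h1.1, zero_mul]
    · rw [ih h0, mul_zero]

/-- the index of the opposite root -/
def ng (s : Fin chevE8.nroots) : Fin chevE8.nroots := ⟨239 - s, by
  have h := nroots_eq
  have := s.2
  omega⟩

theorem lt240 (s : Fin chevE8.nroots) : (s : ℕ) < 240 := by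
  have h := nroots_eq
  have := s.2
  omega

theorem ng_ng (s : Fin chevE8.nroots) : ng (ng s) = s := by
  apply Fin.ext
  show 239 - (239 - (s : ℕ)) = s
  have := lt240 s
  omega

theorem ng_ne (s : Fin chevE8.nroots) : ng s ≠ s := by
  intro h
  have h1 : 239 - (s : ℕ) = s := congrArg Fin.val h
  have := lt240 s
  omega

theorem rank8 : chevE8.rank = 8 := by decide +kernel

/-- the weight of `-r` is the weight of `r` -/
theorem cK_ng (i : Fin chevE8.rank) (s : Fin chevE8.nroots) : cK i (Sum.inr (ng s)) = cK i (Sum.inr s) := by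
  show ((car chevE8 i (239 - (s : ℕ)) : ℤ) : KK) = ((car chevE8 i s : ℤ) : KK)
  rw [int_cast_KK, int_cast_KK (car chevE8 i s), if_congr (car_neg (lt240 s) (by have := i.2; have := rank8; omega)) rfl rfl]

/-- the weight spaces -/
theorem wt_eq {s : Fin chevE8.nroots} {k : chevE8.Idx} (h : ∀ i : Fin chevE8.rank, cK i (Sum.inr s) = cK i k) :
    k = Sum.inr s ∨ k = Sum.inr (ng s) := by
  have key : ∀ a b : ℤ, ((a : KK) = (b : KK)) → (a % 2 = 0 ↔ b % 2 = 0) := by
    intro a b hab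
    rw [int_cast_KK, int_cast_KK] at hab
    by_cases h1 : a % 2 = 0 <;> by_cases h2 : b % 2 = 0 <;> simp [h1, h2] at hab ⊢
  rcases k with k | k
  · exfalso
    refine code_ne (lt240 s) (code_zero (lt240 s) fun i hi => ?_)
    have h1 : ((car chevE8 i s : ℤ) : KK) = ((0 : ℤ) : KK) := by
      rw [Int.cast_zero]
      exact h ⟨i, by rw [rank8]; exact hi⟩
    exact (key _ _ h1).2 rfl
  · rcases code_eq (lt240 s) (lt240 k) (code_congr (lt240 s) (lt240 k) fun i hi =>
      key _ _ (h ⟨i, by rw [rank8]; exact hi⟩)) with h1 | h1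
    · left; rw [Fin.ext h1]
    · right; rw [show k = ng s from Fin.ext h1]

/-! ### the form -/

/-- the weight of the torus -/
def wt : chevE8.Idx → Fin 8 → ℤ := Sum.elim (fun _ _ => 0) (fun s i => rt chevE8 s i)

/-- the basis vectors -/
noncomputable def e (k : chevE8.Idx) : LK := Pi.single k 1

theorem exists_tor (i : Fin 8) {l : KK} (hl : l ≠ 0) : ∃ t ∈ TT chevE8 KK, ∀ k, aK t (e k) = l ^ wt k i • e k := by
  have hMC : IsMC fun x : Fin 8 → ℤ => l ^ x i := by
    refine ⟨by rw [Pi.zero_apply, zpow_zero], fun a b => ?_⟩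
    rw [Pi.add_apply, zpow_add₀ hl]
  obtain ⟨t, ht, hc⟩ := exists_cX e8T inv_E8 one_ne_zero hMC (fun j => ⟨_, pow_one _⟩)
  refine ⟨t, ht, fun k => ?_⟩
  funext k'
  rw [aK_tor ht, Pi.smul_apply, smul_eq_mul]
  unfold e
  by_cases h : k' = k
  · subst h
    rw [Pi.single_eq_same, mul_one, mul_one]
    rcases k' with k' | k'
    · show (1 : KK) = l ^ (0 : ℤ)
      rw [zpow_zero]
    · show cX e8T t (vec chevE8 8 k') = _
      rw [hc]
      rfl
  · rw [Pi.single_eq_of_ne h, mul_zero, mul_zero]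

section Form

variable {B : LK →ₗ[KK] LK →ₗ[KK] KK} (hB : ∀ (g : ↥(chevE8.group KK)) v w, B (aK g v) (aK g w) = B v w)

include hB in
theorem wt_of_ne {j k : chevE8.Idx} (h : B (e j) (e k) ≠ 0) (i : Fin 8) : wt j i + wt k i = 0 := by
  have := charKK
  by_contra hn
  obtain ⟨n, hn'⟩ : ∃ n : ℕ, n = 2 * (wt j i + wt k i).natAbs + 1 := ⟨_, rfl⟩
  obtain ⟨l, hl⟩ : ∃ l : KK, IsPrimitiveRoot l n := by
    have : NeZero ((n : ℕ) : KK) := ⟨by
      intro h0
      have h1 := (CharP.cast_eq_zero_iff KK 2 n).1 h0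
      omega⟩
    exact HasEnoughRootsOfUnity.exists_primitiveRoot KK n
  have hl0 : l ≠ 0 := hl.ne_zero (by omega)
  obtain ⟨t, ht, hc⟩ := exists_tor i hl0
  have h1 := hB t (e j) (e k)
  rw [hc, hc, map_smul, map_smul, LinearMap.smul_apply, smul_eq_mul, smul_eq_mul, ← mul_assoc, ← zpow_add₀ hl0] at h1
  have h2 : l ^ (wt k i + wt j i) = 1 := by
    have h3 : l ^ (wt k i + wt j i) * B (e j) (e k) = 1 * B (e j) (e k) := by rw [h1, one_mul]
    exact mul_right_cancel₀ h h3
  rw [hl.zpow_eq_one_iff_dvd, add_comm] at h2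
  have h3 := Nat.le_of_dvd (Int.natAbs_pos.2 hn) (Int.natCast_dvd.1 h2)
  omega

theorem eq_ng {s : Fin chevE8.nroots} {k : chevE8.Idx} (h : ∀ i, wt (Sum.inr s) i + wt k i = 0) : k = Sum.inr (ng s) := by
  have h1 : ∀ i : Fin 8, rt chevE8 (ng s) i = wt k i := fun i => by
    have h2 := rt_neg' (lt240 s) i
    have h3 : rt chevE8 s i + wt k i = 0 := h i
    have h4 : rt chevE8 (ng s) i = rt chevE8 (239 - s) i := rfl
    omega
  rcases k with k | k
  · exfalso
    have hW : Finite CoxeterMatrix.E₈.Group := finite_W e8T CoxeterMatrix.E₈.toCoxeterSystem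
    refine (isRoot_vec e8T CoxeterMatrix.E₈.toCoxeterSystem (ng s).2).ne_zero ?_
    funext i
    exact h1 i
  · congr 1
    apply Fin.ext
    refine (vec_inj e8T (ng s).2 k.2 ?_).symm
    funext i
    exact h1 i

end Form

end TFour

open TFour

section

variable {z t : ↥(chevE8.group KK)} {B : LK →ₗ[KK] LK →ₗ[KK] KK}

/-- the decomposition in the basis -/
theorem TFour.sum_e (v : LK) : v = ∑ k, v k • e k := by
  funext j
  rw [Finset.sum_apply, Finset.sum_eq_single j]
  · rw [Pi.smul_apply, e, Pi.single_eq_same, smul_eq_mul, mul_one]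
  · intro b _ hb
    rw [Pi.smul_apply, e, Pi.single_eq_of_ne hb.symm, smul_zero]
  · intro h
    exact absurd (Finset.mem_univ j) h

/-- the projection to a weight space -/
theorem TFour.prj_eq (s : Fin chevE8.nroots) (v : LK) :
    prj (Sum.inr s) v = v (Sum.inr s) • e (Sum.inr s) + v (Sum.inr (ng s)) • e (Sum.inr (ng s)) := by
  funext k
  rw [Pi.add_apply, Pi.smul_apply, Pi.smul_apply, e, e, smul_eq_mul, smul_eq_mul]
  have hne : (Sum.inr s : chevE8.Idx) ≠ Sum.inr (ng s) := fun h => ng_ne s (Sum.inr.inj h).symm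
  by_cases h : ∀ i : Fin chevE8.rank, cK i (Sum.inr s) = cK i k
  · rw [prj_apply_eq _ _ h]
    rcases wt_eq h with rfl | rfl
    · rw [Pi.single_eq_same, Pi.single_eq_of_ne hne, mul_one, mul_zero, add_zero]
    · rw [Pi.single_eq_same, Pi.single_eq_of_ne hne.symm, mul_one, mul_zero, zero_add]
  · push Not at h
    obtain ⟨i, hi⟩ := h
    rw [prj_apply_ne _ _ hi, Pi.single_eq_of_ne, Pi.single_eq_of_ne, mul_zero, mul_zero, add_zero]
    · rintro rfl
      exact hi (cK_ng i s).symm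
    · rintro rfl
      exact hi rfl

/-- a nondegenerate subalgebra containing the Cartan subalgebra contains every root vector in its support -/
theorem TFour.mem_e (hB : ∀ (g : ↥(chevE8.group KK)) v w, B (aK g v) (aK g w) = B v w) (hsym : ∀ v w, B v w = B w v)
    {A : Submodule KK LK} (h0 : ∀ i, e (Sum.inl i) ∈ A) (hbr : ∀ a ∈ A, ∀ b ∈ A, brK a b ∈ A)
    (hnd : ∀ a ∈ A, (∀ b ∈ A, B a b = 0) → a = 0) {v : LK} (hv : v ∈ A) (k : chevE8.Idx) (hk : v k ≠ 0) : e k ∈ A := by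
  have h0' : ∀ i : Fin chevE8.rank, (Sum.elim (Pi.single i 1) 0 : LK) ∈ A := by
    intro i
    have h1 : (Sum.elim (Pi.single i 1) 0 : LK) = e (Sum.inl i) := by
      funext j
      rcases j with j | j
      · show (Pi.single i 1 : Fin chevE8.rank → KK) j = e (Sum.inl i) (Sum.inl j)
        unfold e
        by_cases h : j = i
        · subst h
          rw [Pi.single_eq_same, Pi.single_eq_same]
        · rw [Pi.single_eq_of_ne h, Pi.single_eq_of_ne (fun h' => h (Sum.inl.inj h'))]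
      · show (0 : KK) = e (Sum.inl i) (Sum.inr j)
        unfold e
        rw [Pi.single_eq_of_ne (by simp)]
    rw [h1]
    exact h0 i
  have hprj : ∀ j, ∀ w ∈ A, prj j w ∈ A := by
    intro j w hw
    unfold prj
    induction List.finRange chevE8.rank with
    | nil => exact hw
    | cons a l ih =>
      rw [List.foldr_cons]
      exact A.add_mem (A.smul_mem _ ih) (hbr _ (h0' a) _ ih)
  rcases k with k | s
  · exact h0 k
  set p : chevE8.Idx := Sum.inr s with hp
  set m : chevE8.Idx := Sum.inr (ng s) with hm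
  have hBp : ∀ k, k ≠ m → B (e p) (e k) = 0 := by
    intro k hk1
    by_contra h
    exact hk1 (eq_ng (wt_of_ne hB h))
  have hBm : ∀ k, k ≠ p → B (e m) (e k) = 0 := by
    intro k hk1
    by_contra h
    have h1 := eq_ng (wt_of_ne hB h)
    rw [ng_ng] at h1
    exact hk1 h1
  have hpm : p ≠ m := fun h => ng_ne s (Sum.inr.inj h).symm
  have hu : v p • e p + v m • e m ∈ A := by rw [← TFour.prj_eq]; exact hprj _ _ hv
  have hune : v p • e p + v m • e m ≠ 0 := by
    intro h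
    have h1 := congrFun h p
    rw [Pi.add_apply, Pi.smul_apply, Pi.smul_apply, e, e, Pi.single_eq_same, Pi.single_eq_of_ne hpm, smul_zero,
      add_zero, smul_eq_mul, mul_one] at h1
    exact hk h1
  obtain ⟨w, hw, hwne⟩ : ∃ w ∈ A, B (v p • e p + v m • e m) w ≠ 0 := by
    by_contra h
    push Not at h
    exact hune (hnd _ hu h)
  have hw' : w p • e p + w m • e m ∈ A := by rw [← TFour.prj_eq]; exact hprj _ _ hw
  have h1 : B (v p • e p + v m • e m) w = (v p * w m + v m * w p) * B (e p) (e m) := by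
    have h2 : B (e p) w = w m * B (e p) (e m) := by
      conv_lhs => rw [TFour.sum_e w]
      rw [map_sum, Finset.sum_eq_single m]
      · rw [map_smul, smul_eq_mul]
      · intro b _ hb
        rw [map_smul, hBp b hb, smul_zero]
      · intro h
        exact absurd (Finset.mem_univ m) h
    have h3 : B (e m) w = w p * B (e p) (e m) := by
      conv_lhs => rw [TFour.sum_e w]
      rw [map_sum, Finset.sum_eq_single p]
      · rw [map_smul, smul_eq_mul, hsym (e m)]
      · intro b _ hb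
        rw [map_smul, hBm b hb, smul_zero]
      · intro h
        exact absurd (Finset.mem_univ p) h
    rw [map_add, map_smul, map_smul, LinearMap.add_apply, LinearMap.smul_apply, LinearMap.smul_apply, h2, h3,
      smul_eq_mul, smul_eq_mul]
    ring
  rw [h1] at hwne
  have hd : v p * w m + v m * w p ≠ 0 := left_ne_zero_of_mul hwne
  have h4 : w m • (v p • e p + v m • e m) + v m • (w p • e p + w m • e m) = (v p * w m + v m * w p) • e p := by
    have h5 : w m • (v p • e p + v m • e m) + v m • (w p • e p + w m • e m) =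
        (v p * w m + v m * w p) • e p + (2 : KK) • ((v m * w m) • e m) := by
      module
    rw [h5, two_zero, zero_smul, add_zero]
  have h6 := A.add_mem (A.smul_mem (w m) hu) (A.smul_mem (v m) hw')
  rw [h4] at h6
  exact (A.smul_mem_iff hd).1 h6

/-- **T4** (both types): a non-degenerate subalgebra containing `L^y` is stable under `g` -/
theorem T4 {y g : E2} {z t t' : ↥(chevE8.group KK)}
    (ht : t ∈ Cfsg.Agent.KFacts.RgdChevCoord.TT chevE8 KK) (ht' : t' ∈ Cfsg.Agent.KFacts.RgdChevCoord.TT chevE8 KK)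
    (hy : em y = z * t * z⁻¹) (hg : em g = z * t' * z⁻¹) (B : LK →ₗ[KK] LK →ₗ[KK] KK)
    (hB : ∀ (g : ↥(chevE8.group KK)) v w, B (aK g v) (aK g w) = B v w) (hsym : ∀ v w, B v w = B w v)
    (_hnd : ∀ v, (∀ w, B v w = 0) → v = 0) (A : Submodule KK LK) (hA : ∀ v, rE y v = v → v ∈ A)
    (hbr : ∀ a ∈ A, ∀ b ∈ A, brK a b ∈ A) (hAnd : ∀ a ∈ A, (∀ b ∈ A, B a b = 0) → a = 0) :
    ∀ v ∈ A, rE g v ∈ A := by
  let A' : Submodule KK LK :=
    { carrier := {v | aK z v ∈ A}
      add_mem' := fun {a b} ha hb => by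
        show aK z (a + b) ∈ A
        rw [aK_add]; exact A.add_mem ha hb
      zero_mem' := by
        show aK z 0 ∈ A
        rw [aK_zero]; exact A.zero_mem
      smul_mem' := fun c a ha => by
        show aK z (c • a) ∈ A
        rw [aK_smul]; exact A.smul_mem _ ha }
  have hmem : ∀ v, v ∈ A' ↔ aK z v ∈ A := fun v => Iff.rfl
  have h0 : ∀ i, e (Sum.inl i) ∈ A' := by
    intro i
    rw [hmem]
    refine hA _ ((fix_iff hy _).2 ?_)
    rw [aK_inv']
    funext k
    rw [aK_tor ht]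
    rcases k with k | k
    · rw [Sum.elim_inl, one_mul]
    · unfold e
      rw [Pi.single_eq_of_ne (by simp), mul_zero]
  have hbr' : ∀ a ∈ A', ∀ b ∈ A', brK a b ∈ A' := by
    intro a ha b hb
    rw [hmem, aK_brK]
    exact hbr _ ha _ hb
  have hnd' : ∀ a ∈ A', (∀ b ∈ A', B a b = 0) → a = 0 := by
    intro a ha h
    have h1 : aK z a = 0 := by
      refine hAnd _ ha fun b hb => ?_
      have h2 := h (aK z⁻¹ b) (by rw [hmem, aK_inv]; exact hb)
      rw [← hB z, aK_inv] at h2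
      exact h2
    have h2 := congrArg (aK z⁻¹) h1
    rwa [aK_inv', aK_zero] at h2
  intro v hv
  have hv' : aK z⁻¹ v ∈ A' := by rw [hmem, aK_inv]; exact hv
  have key : aK t' (aK z⁻¹ v) ∈ A' := by
    rw [TFour.sum_e (aK t' (aK z⁻¹ v))]
    refine A'.sum_mem fun k _ => ?_
    by_cases hk : aK z⁻¹ v k = 0
    · rw [aK_tor ht', hk, mul_zero, zero_smul]
      exact A'.zero_mem
    · exact A'.smul_mem _ (TFour.mem_e hB hsym h0 hbr' hnd' hv' k hk)
  rw [rE_apply, hg, aK_mul, aK_mul]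
  exact (hmem _).1 key

end

end Cfsg.Agent.H413.L64

private theorem dce_dae6fcb4b77e : _root_.True := by
  try have : _root_.True := by simp only [_root_.Cfsg.Agent.H413.L64.TFour.e.eq_1]
  exact _root_.True.intro
end

-- part: H259/L64/KThree
section
set_option linter.all false
open scoped Cfsg.Agent.FastGrp

namespace Cfsg.Agent
section
open Cfsg.Agent.H944.Tab (dotN sumH invB hh)

private noncomputable def fS (x : ℕ) (f : ℕ → ℕ) : ℕ := Nat.rec (f 0) (fun n _ => f (Nat.succ n)) x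

private noncomputable def zpS (B : ℕ) (r : List ℕ) : List ℕ → List ℕ :=
  List.rec (fun c => c.map (Nat.mul B)) (fun a _ ih c => Nat.add a (Nat.mul B (c.headD 0)) :: ih c.tail) r

private noncomputable def colS (B : ℕ) (R : List (List ℕ)) : List ℕ := List.rec [] (fun r _ ih => zpS B r ih) R

private noncomputable def pkS (B : ℕ) (y : List ℕ) (R : List (List ℕ)) : ℕ :=
  List.rec 0 (fun r _ ih => dotN r y + B * ih) R

private noncomputable def dgS (h : ℕ → ℕ) (R : List (List ℕ)) : ℕ → ℕ :=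
  List.rec (fun _ => 0) (fun _ _ ih D => Nat.add (fS (Nat.mod D 1048576) h) (ih (Nat.div D 1048576))) R

private noncomputable def sumS (h : ℕ → ℕ) (R : List (List ℕ)) (y : List ℕ) : ℕ :=
  cond (Nat.blt (dotN (colS 1 R) y) 1048576) (dgS h R (dotN (colS 1048576 R) y)) (sumH h R y)

private def gS (N q t : ℕ) : ℕ := Nat.add (hh N t) (Nat.mul 2305843009213693950 (hh N (q * t)))

private noncomputable def invS (N q : ℕ) (R : List (List ℕ)) (y : List ℕ) : Bool :=
  cond (Nat.beq (Nat.mod (sumS (gS N q) R y) 2305843009213693951) 0)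
    (Nat.beq (sumS (hh N) R y) (sumS (fun t => hh N (q * t)) R y)) false

private theorem zpS_dot (B : ℕ) (r : List ℕ) : ∀ c y : List ℕ, dotN (zpS B r c) y = dotN r y + B * dotN c y := by
  have d0 : ∀ y, dotN [] y = 0 := fun y => by cases y <;> rfl
  have d1 : ∀ y, dotN y [] = 0 := fun y => by cases y <;> rfl
  have h0 : ∀ (B : ℕ) (c y : List ℕ), dotN (c.map (Nat.mul B)) y = B * dotN c y := fun B c => by
    induction c with
    | nil => exact fun y => (d0 y).trans (by rw [d0]; rfl)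
    | cons b c ih =>
      intro y
      cases y with
      | nil => exact (d1 _).trans (by rw [d1]; rfl)
      | cons x y =>
        show B * b * x + dotN (c.map (Nat.mul B)) y = B * (b * x + dotN c y)
        rw [ih, Nat.mul_add, Nat.mul_assoc]
  induction r with
  | nil => exact fun c y => (h0 B c y).trans (by rw [d0, Nat.zero_add])
  | cons a r ih =>
    intro c y
    cases y with
    | nil => rw [d1, d1, d1]; rfl
    | cons x y =>
      show (a + B * c.headD 0) * x + dotN (zpS B r c.tail) y = a * x + dotN r y + B * dotN c (x :: y)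
      rw [ih]
      cases c with
      | nil =>
        show (a + B * 0) * x + (dotN r y + B * dotN [] y) = a * x + dotN r y + B * 0
        rw [d0, Nat.mul_zero, Nat.add_zero, Nat.add_zero, Nat.add_zero]
      | cons b c =>
        show (a + B * b) * x + (dotN r y + B * dotN c y) = a * x + dotN r y + B * (b * x + dotN c y)
        rw [Nat.add_mul, Nat.mul_add, Nat.mul_assoc, Nat.add_add_add_comm]

private theorem sumS_eq : sumH = sumS := by
  have h2 : ∀ (B : ℕ) (y : List ℕ) (R : List (List ℕ)), dotN (colS B R) y = pkS B y R := fun B y R => by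
    induction R with
    | nil => cases y <;> rfl
    | cons r R ih => exact (zpS_dot B r (colS B R) y).trans (congrArg (fun z => dotN r y + B * z) ih)
  have h3 : ∀ (h : ℕ → ℕ) (y : List ℕ) (R : List (List ℕ)), pkS 1 y R < 1048576 →
      sumH h R y = dgS h R (pkS 1048576 y R) := fun h y R => by
    induction R with
    | nil => exact fun _ => rfl
    | cons r R ih =>
      intro hl
      have e0 : dotN r y + 1 * pkS 1 y R < 1048576 := hl
      have e1 : (dotN r y + 1048576 * pkS 1048576 y R) % 1048576 = dotN r y := by omega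
      have e2 : (dotN r y + 1048576 * pkS 1048576 y R) / 1048576 = pkS 1048576 y R := by omega
      show h (dotN r y) + sumH h R y = fS ((dotN r y + 1048576 * pkS 1048576 y R) % 1048576) h +
        dgS h R ((dotN r y + 1048576 * pkS 1048576 y R) / 1048576)
      rw [e1, e2, ih (by omega)]
      cases dotN r y <;> rfl
  funext h R y
  delta sumS
  rw [h2, h2]
  cases e : Nat.blt (pkS 1 y R) 1048576 with
  | false => rfl
  | true => exact h3 h y R (Nat.blt_eq.mp e)

private theorem invS_eq : invB = invS := by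
  have h0 : ∀ (N q : ℕ) (y : List ℕ) (R : List (List ℕ)), sumH (gS N q) R y =
      sumH (hh N) R y + 2305843009213693950 * sumH (fun t => hh N (q * t)) R y := fun N q y R => by
    induction R with
    | nil => rfl
    | cons r R ih =>
      show hh N (dotN r y) + 2305843009213693950 * hh N (q * dotN r y) + sumH (gS N q) R y =
        hh N (dotN r y) + sumH (hh N) R y + 2305843009213693950 * (hh N (q * dotN r y) + sumH (fun t => hh N (q * t)) R y)
      rw [ih, Nat.mul_add, Nat.add_add_add_comm]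
  funext N q R y
  delta invS invB
  rw [← sumS_eq, h0]
  cases e : Nat.beq (sumH (hh N) R y) (sumH (fun t => hh N (q * t)) R y) with
  | false => exact (Bool.cond_self _ _).symm
  | true =>
    rw [Nat.eq_of_beq_eq_true e]
    generalize sumH (fun t => hh N (q * t)) R y = s
    rw [show Nat.mod (s + 2305843009213693950 * s) 2305843009213693951 = 0 from
      (show (s + 2305843009213693950 * s) % 2305843009213693951 = 0 by omega)]
    rfl

end
end Cfsg.Agent

-- part: H259/L64/Solve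
section
/-!
# S5915, block K3: natural solutions of a system of linear equations
-/

set_option autoImplicit false

namespace Cfsg.Agent.H259.L64

open Cfsg.Agent.H944.Tab

theorem nbeq_false {a b : ℕ} (h : a ≠ b) : Nat.beq a b = false := by
  cases h' : Nat.beq a b with
  | false => rfl
  | true => exact absurd (Nat.eq_of_beq_eq_true h') h

/-- a bound for the first unknown -/
def bd (n : ℕ) (V C : List ℕ) (B : ℕ) : ℕ :=
  (List.range n).foldl (fun m j => bif Nat.beq (V.getD j 0) 0 then m else min m (C.getD j 0 / V.getD j 0)) B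

/-- the right hand side after the choice of the first unknown -/
def sb (n x : ℕ) (V C : List ℕ) : List ℕ := (List.range n).map fun j => C.getD j 0 - x * V.getD j 0

/-- the equations without unknowns are satisfied -/
def dead (n : ℕ) (Vs : List (List ℕ)) (C : List ℕ) : Bool :=
  (List.range n).all fun j => Nat.beq (C.getD j 0) 0 || Vs.any fun V => !Nat.beq (V.getD j 0) 0

/-- all solutions with entries `≤ B` satisfy `p` -/
def allSol (n B : ℕ) : List (List ℕ) → List ℕ → (List ℕ → Bool) → Bool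
  | [], _, p => p []
  | V :: Vs, C, p => (List.range (bd n V C B + 1)).all fun c =>
      bif dead n Vs (sb n c V C) then allSol n B Vs (sb n c V C) fun x => p (c :: x) else true

theorem le_bd_aux (V C : List ℕ) (c : ℕ) (L : List ℕ) (h : ∀ j ∈ L, c * V.getD j 0 ≤ C.getD j 0) :
    ∀ B, c ≤ B → c ≤ L.foldl (fun m j => bif Nat.beq (V.getD j 0) 0 then m else min m (C.getD j 0 / V.getD j 0)) B := by
  induction L with
  | nil => intro B hB; exact hB
  | cons j L ih =>
    intro B hB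
    rw [List.foldl_cons]
    refine ih (fun i hi => h i (List.mem_cons_of_mem _ hi)) _ ?_
    by_cases h0 : V.getD j 0 = 0
    · rw [h0]
      exact hB
    · have h1 : Nat.beq (V.getD j 0) 0 = false := nbeq_false h0
      rw [h1, cond_false, le_min_iff]
      refine ⟨hB, ?_⟩
      rw [Nat.le_div_iff_mul_le (Nat.pos_of_ne_zero h0)]
      exact h j (List.mem_cons_self)

theorem getD_sb (n x : ℕ) (V C : List ℕ) {j : ℕ} (hj : j < n) :
    (sb n x V C).getD j 0 = C.getD j 0 - x * V.getD j 0 := by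
  unfold sb
  rw [List.getD_eq_getElem _ _ (by simpa only [_root_.List.getD_eq_getElem?_getD, _root_.List.length_map, _root_.List.length_range] using hj)]
  simp only [_root_.List.getD_eq_getElem?_getD, _root_.List.getElem_map, _root_.List.getElem_range]

theorem dotN_zero (j : ℕ) : ∀ (x : List ℕ) (Vs : List (List ℕ)), (∀ V ∈ Vs, V.getD j 0 = 0) →
    dotN x (Vs.map (·.getD j 0)) = 0 := by
  intro x
  induction x with
  | nil => intro Vs _; exact dotN_nil_left _
  | cons c x ih =>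
    intro Vs h
    cases Vs with
    | nil => rfl
    | cons V Vs =>
      rw [List.map_cons, dotN, h V (List.mem_cons_self), ih Vs fun W hW => h W (List.mem_cons_of_mem _ hW)]
      omega

theorem allSol_spec (n B : ℕ) : ∀ (Vs : List (List ℕ)) (C : List ℕ) (p : List ℕ → Bool), allSol n B Vs C p = true →
    ∀ x : List ℕ, x.length = Vs.length → (∀ c ∈ x, c ≤ B) →
      (∀ j < n, C.getD j 0 = dotN x (Vs.map (·.getD j 0))) → p x = true := by
  intro Vs
  induction Vs with
  | nil =>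
    intro C p h x hx _ _
    have : x = [] := List.length_eq_zero_iff.1 (by simpa using hx)
    subst this
    exact h
  | cons V Vs ih =>
    intro C p h x hx hB heq
    cases x with
    | nil => simp at hx
    | cons c x =>
      rw [allSol, List.all_eq_true] at h
      have h1 : ∀ j < n, C.getD j 0 = c * V.getD j 0 + dotN x (Vs.map (·.getD j 0)) := by
        intro j hj
        rw [heq j hj, List.map_cons, dotN]
      have h2 : c ≤ bd n V C B := by
        refine le_bd_aux V C c (List.range n) (fun j hj => ?_) B (hB c (List.mem_cons_self))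
        rw [h1 j (List.mem_range.1 hj)]
        exact Nat.le_add_right _ _
      have h3 := h c (List.mem_range.2 (by omega))
      have h4 : ∀ j < n, (sb n c V C).getD j 0 = dotN x (Vs.map (·.getD j 0)) := by
        intro j hj
        rw [getD_sb n c V C hj, h1 j hj]
        omega
      have h5 : dead n Vs (sb n c V C) = true := by
        unfold dead
        rw [List.all_eq_true]
        intro j hj
        rw [Bool.or_eq_true, List.any_eq_true]
        by_cases h0 : ∃ V ∈ Vs, V.getD j 0 ≠ 0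
        · right
          obtain ⟨W, hW, hW0⟩ := h0
          refine ⟨W, hW, ?_⟩
          have : Nat.beq (W.getD j 0) 0 = false := nbeq_false hW0
          rw [this]
          rfl
        · left
          push Not at h0
          rw [h4 j (List.mem_range.1 hj), dotN_zero j x Vs h0]
          rfl
      rw [h5, cond_true] at h3
      exact ih (sb n c V C) (fun x => p (c :: x)) h3 x (by simpa using hx) (fun d hd => hB d (List.mem_cons_of_mem _ hd)) h4

end Cfsg.Agent.H259.L64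
end

-- part: H259/L64/Cnt
section
/-!
# S5915, block K3: counting root values

`cn N c Y` : the number of roots with the value `c` modulo `N` on the vector `Y`.
-/

set_option autoImplicit false
set_option maxRecDepth 100000

namespace Cfsg.Agent.H259.L64

open Cfsg Cfsg.Lie
open Cfsg.Agent.ChevalleyStructure Cfsg.Agent.ChevalleyStructure.CoxeterGeomTypes
open Cfsg.Agent.H942.E8Tab Cfsg.Agent.H942.E8Alc Cfsg.Agent.H942.E8Val
open Cfsg.Agent.H944.RootVals Cfsg.Agent.H944.Tab Cfsg.Agent.H944.Kac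

/-- indicator -/
def ib (a b : ℕ) : ℕ := bif Nat.beq a b then 1 else 0

theorem ib_eq (a b : ℕ) : ib a b = if a = b then 1 else 0 := by
  unfold ib
  by_cases h : a = b
  · subst h
    simp
  · have : Nat.beq a b = false := nbeq_false h
    rw [this, if_neg h, cond_false]

/-- the number of roots with the value `c` modulo `N` -/
def cn (N c : ℕ) (Y : List ℕ) : ℕ := sumH (fun t => ib (t % N) c + ib ((N - t % N) % N) c) R8 Y

theorem cast_eq_iff {N : ℕ} [NeZero N] {c : ℕ} (hc : c < N) (t : ℕ) : ((c : ZMod N) = (t : ZMod N)) ↔ t % N = c := by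
  constructor
  · intro h
    have h1 := congrArg ZMod.val h
    rw [ZMod.val_natCast, ZMod.val_natCast, Nat.mod_eq_of_lt hc] at h1
    exact h1.symm
  · intro h
    rw [← h]
    exact ZMod.natCast_mod t N

theorem cast_neg_iff {N : ℕ} [NeZero N] {c : ℕ} (hc : c < N) (t : ℕ) :
    ((c : ZMod N) = -(t : ZMod N)) ↔ (N - t % N) % N = c := by
  have hN : 0 < N := Nat.pos_of_ne_zero (NeZero.ne N)
  have h1 : (-(t : ZMod N)) = (((N - t % N : ℕ)) : ZMod N) := by
    rw [Nat.cast_sub (Nat.mod_lt t hN).le, ZMod.natCast_self, ZMod.natCast_mod, zero_sub]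
  rw [h1, cast_eq_iff hc]

theorem count_list {N : ℕ} [NeZero N] {c : ℕ} (hc : c < N) (Y : List ℕ) (R : List (List ℕ)) :
    (R.map fun r => ((dotN r Y : ℕ) : ZMod N)).count (c : ZMod N) +
      (R.map fun r => -((dotN r Y : ℕ) : ZMod N)).count (c : ZMod N) =
      sumH (fun t => ib (t % N) c + ib ((N - t % N) % N) c) R Y := by
  induction R with
  | nil => simp [sumH]
  | cons r R ih =>
    rw [sumH, ← ih, List.map_cons, List.map_cons, List.count_cons, List.count_cons, ib_eq, ib_eq]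
    have h1 : ((((dotN r Y : ℕ) : ZMod N) == (c : ZMod N)) = true) ↔ (dotN r Y % N = c) := by
      rw [beq_iff_eq, eq_comm, cast_eq_iff hc]
    have h2 : (((-((dotN r Y : ℕ) : ZMod N)) == (c : ZMod N)) = true) ↔ ((N - dotN r Y % N) % N = c) := by
      rw [beq_iff_eq, eq_comm, cast_neg_iff hc]
    simp only [h1, h2]
    ring

/-- the multiplicity of a value on a list vector -/
theorem count_vecL {N : ℕ} [NeZero N] (Y : List ℕ) {c : ℕ} (hc : c < N) :
    (ms chevE8 8 (vecL N Y)).count (c : ZMod N) = cn N c Y := by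
  rw [ms_tab tab8, Multiset.count_add, Multiset.coe_count, Multiset.coe_count, cn, ← count_list hc Y R8]
  congr 2
  · exact List.map_congr_left fun r hr => dotF_vecL Y r hr
  · refine List.map_congr_left fun r hr => ?_
    rw [dotF_vecL Y r hr]

/-- every vector is a list vector -/
theorem exists_list {N : ℕ} [NeZero N] (v : Fin 8 → ZMod N) :
    ∃ Y : List ℕ, Y.length = 8 ∧ vecL N Y = v ∧ ∀ i : Fin 8, Y.getD i 0 = (v i).val := by
  refine ⟨List.ofFn fun i => (v i).val, by simp, ?_, ?_⟩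
  · funext i
    unfold vecL
    rw [List.getD_eq_getElem _ _ (by rw [List.length_ofFn]; exact i.2), List.getElem_ofFn]
    exact ZMod.natCast_zmod_val _
  · intro i
    rw [List.getD_eq_getElem _ _ (by rw [List.length_ofFn]; exact i.2), List.getElem_ofFn]

/-- multiplication of a vector by a scalar -/
theorem ms_smul {N : ℕ} (u : ZMod N) (v : Fin 8 → ZMod N) :
    ms chevE8 8 (fun i => u * v i) = (ms chevE8 8 v).map (fun a => u * a) := by
  rw [ms_eq, ms_eq, Multiset.map_map]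
  refine Multiset.map_congr rfl fun s _ => ?_
  simp only [Function.comp_apply]
  unfold rv
  rw [Finset.mul_sum]
  refine Finset.sum_congr rfl fun i _ => ?_
  ring

theorem count_smul {N : ℕ} (u : (ZMod N)ˣ) (v : Fin 8 → ZMod N) (a : ZMod N) :
    (ms chevE8 8 (fun i => (u : ZMod N) * v i)).count a = (ms chevE8 8 v).count ((u⁻¹ : (ZMod N)ˣ) * a) := by
  rw [ms_smul]
  have h1 : a = (u : ZMod N) * (((u⁻¹ : (ZMod N)ˣ) : ZMod N) * a) := by rw [Units.mul_inv_cancel_left]
  conv_lhs => rw [h1]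
  exact Multiset.count_map_eq_count' _ _ (fun x y h => u.isUnit.mul_left_cancel h) _

end Cfsg.Agent.H259.L64
end

-- part: H259/L64/Tab
section
/-!
# S5915, block K3: the tables of the orders 65 and 9
-/

set_option autoImplicit false
set_option maxRecDepth 100000

namespace Cfsg.Agent.H259.L64

open Cfsg Cfsg.Lie
open Cfsg.Agent.ChevalleyStructure Cfsg.Agent.ChevalleyStructure.CoxeterGeomTypes
open Cfsg.Agent.H942.E8Tab Cfsg.Agent.H942.E8Alc Cfsg.Agent.H942.E8Val
open Cfsg.Agent.H944.RootVals Cfsg.Agent.H944.Tab Cfsg.Agent.H944.Kac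
open Cfsg.Agent.H939.L64

def YL1 : List ℕ := [1, 0, 0, 1, 1, 2, 4, 8]

def YL5 : List ℕ := [1, 5, 3, 1, 1, 2, 3, 3]

theorem vecL_YL1 : vecL 65 YL1 = Y1 := by decide

theorem vecL_YL5 : vecL 65 YL5 = Y5 := by decide

def T1 : List ℕ := [4, 7, 7, 4, 7, 3, 4, 3, 7, 3, 3, 2, 4, 2, 3, 3, 7, 4, 3, 2, 3, 2, 2, 2, 4, 3, 2, 2, 3, 3, 3, 4, 7, 7, 4,
  3, 3, 3, 2, 2, 3, 4, 2, 2, 2, 3, 2, 3, 4, 7, 3, 3, 2, 4, 2, 3, 3, 7, 3, 4, 3, 7, 4, 7, 7]

def T5 : List ℕ := [0, 3, 3, 4, 3, 5, 4, 3, 3, 3, 5, 4, 4, 3, 3, 5, 3, 4, 3, 4, 5, 4, 4, 4, 4, 5, 3, 4, 3, 3, 5, 4, 3, 3, 4,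
  5, 3, 3, 4, 3, 5, 4, 4, 4, 4, 5, 4, 3, 4, 3, 5, 3, 3, 4, 4, 5, 3, 3, 3, 4, 5, 3, 4, 3, 3]

theorem tabT1 : ∀ c < 65, cn 65 c YL1 = T1.getD c 0 := by
  delta cn
  rw [sumS_eq]
  decide +kernel

private noncomputable def _root_.Cfsg.Agent.LsF.f62a1b5_0 : {f // @Cfsg.Agent.H944.Tab.dotN = f} := ⟨_, by first | (delta Cfsg.Agent.H944.Tab.dotN List.brecOn List.brecOn.go Cfsg.Agent.H944.Tab.dotN._f; rewrite [Cfsg.Agent.LsF.nadd_pat, Cfsg.Agent.LsF.nmul_pat]; (try delta Cfsg.Agent.H944.Tab.dotN.match_1); (try delta Cfsg.Agent.H944.Tab.dotN._sparseCasesOn_1); first | dsimp -zeta only | exact rfl) | exact rfl⟩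
private noncomputable def _root_.Cfsg.Agent.LsF.f62a1b5_1 : {f // @Cfsg.Agent.zpS = f} := ⟨_, by first | (delta Cfsg.Agent.zpS; rewrite [Cfsg.Agent.LsF.map_eq, Cfsg.Agent.LsF.headD_eq, Cfsg.Agent.LsF.tail_eq]; exact rfl) | exact rfl⟩
private noncomputable def _root_.Cfsg.Agent.LsF.f62a1b5_2 : {f // @Cfsg.Agent.colS = f} := ⟨_, by first | (delta Cfsg.Agent.colS; rewrite [Cfsg.Agent.LsF.f62a1b5_1.2]; exact rfl) | exact rfl⟩
private noncomputable def _root_.Cfsg.Agent.LsF.f62a1b5_3 : {f // @Cfsg.Agent.H944.Tab.sumH = f} := ⟨_, by first | (delta Cfsg.Agent.H944.Tab.sumH Cfsg.Agent.H944.Tab.sumH._f List.brecOn List.brecOn.go; rewrite [Cfsg.Agent.LsF.f62a1b5_0.2, Cfsg.Agent.LsF.nadd_pat]; (try delta Cfsg.Agent.H944.Tab.sumH.match_1); (try delta List.casesOn); first | dsimp -zeta only | exact rfl) | exact rfl⟩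
private noncomputable def _root_.Cfsg.Agent.LsF.f62a1b5_4 : {f // @Cfsg.Agent.sumS = f} := ⟨_, by first | (delta Cfsg.Agent.sumS; rewrite [Cfsg.Agent.LsF.f62a1b5_0.2, Cfsg.Agent.LsF.f62a1b5_2.2, Cfsg.Agent.LsF.f62a1b5_3.2, Cfsg.Agent.LsF.cond_eq]; exact rfl) | exact rfl⟩
private noncomputable def _root_.Cfsg.Agent.LsF.f62a1b5_5 : {f // @Cfsg.Agent.H259.L64.ib = f} := ⟨_, by first | (delta Cfsg.Agent.H259.L64.ib; rewrite [Cfsg.Agent.LsF.cond_eq]; exact rfl) | exact rfl⟩
theorem tabT5 : ∀ c < 65, cn 65 c YL5 = T5.getD c 0 := by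
  delta cn
  rw [sumS_eq]
  (refine of_decide_eq_true ?_; (try (rewrite [Cfsg.Agent.LsF.f62a1b5_4.2, Cfsg.Agent.LsF.f62a1b5_5.2, Cfsg.Agent.LsF.nadd_pat, Cfsg.Agent.LsF.nsub_pat, Cfsg.Agent.LsF.nmod_pat, Cfsg.Agent.LsF.instDecEq_eq, Cfsg.Agent.LsF.getD_eq, Cfsg.Agent.LsF.dBallLT_eq, Cfsg.Agent.LsF.decide_eq])); decide +kernel)

/-- the numbers of the eigenvalues `0, 1, 3, 5, 7, 11, 13` for the elements of order 65 -/
def L65 : List (List ℕ) :=
  [[8, 3, 4, 5, 3, 4, 3], [8, 4, 3, 5, 4, 3, 3], [12, 2, 7, 3, 4, 3, 2], [12, 3, 2, 3, 7, 4, 2], [12, 4, 3, 3, 2, 7, 2],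
   [12, 7, 4, 3, 3, 2, 2]]

/-- the entries of a table at `0, w, 3w, ..` -/
def colT (T : List ℕ) (w : ℕ) : List ℕ :=
  (T.getD 0 0 + 8) :: [1, 3, 5, 7, 11, 13].map fun j => T.getD (w * j % 65) 0

theorem colT1 : ∀ w < 65, Nat.Coprime w 65 → colT T1 w ∈ L65 := by decide +kernel

theorem colT5 : ∀ w < 65, Nat.Coprime w 65 → colT T5 w ∈ L65 := by decide +kernel

/-- the numbers of the eigenvalues of a vector modulo 65 -/
def col65 (v : Fin 8 → ZMod 65) : List ℕ := [0, 1, 3, 5, 7, 11, 13].map fun j => cntE v ((j : ℕ) : ZMod 65)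

theorem count_of_list {T : List ℕ} {Y : List ℕ} {v₀ : Fin 8 → ZMod 65} (hv₀ : vecL 65 Y = v₀)
    (hT : ∀ c < 65, cn 65 c Y = T.getD c 0) (a : ZMod 65) : (ms chevE8 8 v₀).count a = T.getD a.val 0 := by
  rw [← hT a.val (ZMod.val_lt a), ← count_vecL Y (ZMod.val_lt a), hv₀, ZMod.natCast_zmod_val]

theorem col65_of {T : List ℕ} {Y : List ℕ} {v₀ v : Fin 8 → ZMod 65} (hv₀ : vecL 65 Y = v₀)
    (hT : ∀ c < 65, cn 65 c Y = T.getD c 0) (hL : ∀ w < 65, Nat.Coprime w 65 → colT T w ∈ L65) (u : (ZMod 65)ˣ)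
    (h : ms chevE8 8 v = ms chevE8 8 (fun i => (u : ZMod 65) * v₀ i)) : col65 v ∈ L65 := by
  have h1 : ∀ a : ZMod 65, (ms chevE8 8 v).count a = T.getD ((u⁻¹ : (ZMod 65)ˣ) * a : ZMod 65).val 0 := by
    intro a
    rw [h, count_smul, count_of_list hv₀ hT]
  have h2 := hL ((u⁻¹ : (ZMod 65)ˣ) : ZMod 65).val (ZMod.val_lt _) (ZMod.val_coe_unit_coprime _)
  have h3 : colT T ((u⁻¹ : (ZMod 65)ˣ) : ZMod 65).val = col65 v := by
    have h4 : ∀ j : ℕ, j < 65 → ((u⁻¹ : (ZMod 65)ˣ) * (j : ZMod 65) : ZMod 65).val =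
        ((u⁻¹ : (ZMod 65)ˣ) : ZMod 65).val * j % 65 := by
      intro j hj
      rw [ZMod.val_mul, ZMod.val_natCast, Nat.mod_eq_of_lt hj]
    unfold colT col65 cntE
    simp only [h1, List.map_cons, List.map_nil]
    rw [h4 1 (by norm_num), h4 3 (by norm_num), h4 5 (by norm_num), h4 7 (by norm_num), h4 11 (by norm_num),
      h4 13 (by norm_num)]
    have e0 : ((0 : ℕ) : ZMod 65) = 0 := by decide
    have e1 : ((1 : ℕ) : ZMod 65) ≠ 0 := by decide
    have e3 : ((3 : ℕ) : ZMod 65) ≠ 0 := by decide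
    have e5 : ((5 : ℕ) : ZMod 65) ≠ 0 := by decide
    have e7 : ((7 : ℕ) : ZMod 65) ≠ 0 := by decide
    have e11 : ((11 : ℕ) : ZMod 65) ≠ 0 := by decide
    have e13 : ((13 : ℕ) : ZMod 65) ≠ 0 := by decide
    rw [if_neg e1, if_neg e3, if_neg e5, if_neg e7, if_neg e11, if_neg e13, if_pos e0, e0, mul_zero, ZMod.val_zero]
    rfl
  rw [← h3]
  exact h2

/-- **order 65** -/
theorem col65_mem {v : Fin 8 → ZMod 65} {u : (ZMod 65)ˣ}
    (h : ms chevE8 8 v = ms chevE8 8 (fun i => (u : ZMod 65) * Y1 i) ∨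
      ms chevE8 8 v = ms chevE8 8 (fun i => (u : ZMod 65) * Y5 i)) : col65 v ∈ L65 := by
  rcases h with h | h
  · exact col65_of vecL_YL1 tabT1 colT1 u h
  · exact col65_of vecL_YL5 tabT5 colT5 u h

/-- the numbers of the eigenvalues `0, 1, 3` for the elements of order 9 -/
def L9 : List (List ℕ) :=
  [[28, 27, 29], [30, 27, 28], [34, 27, 26], [48, 27, 19], [80, 0, 84], [86, 0, 81], [92, 0, 78], [134, 0, 57], [248, 0, 0]]

theorem check9 : allAlc th8 9 (fun Y => bif invB 9 2 R8 Y then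
    decide ([cn 9 0 Y + 8, cn 9 1 Y, cn 9 3 Y] ∈ L9) else true) = true := by
  delta cn
  rw [invS_eq, sumS_eq]
  decide +kernel

/-- **order 9** -/
theorem col9_mem (Y : List ℕ)
    (h2 : ms chevE8 8 (vecL 9 Y) = (ms chevE8 8 (vecL 9 Y)).map (fun a => ((2 : ℕ) : ZMod 9) * a)) :
    [cn 9 0 Y + 8, cn 9 1 Y, cn 9 3 Y] ∈ L9 := by
  obtain ⟨Z, hZ1, hZ2, hZ3⟩ := exists_alc (N := 9) (by norm_num) (vecL 9 Y)
  have h3 : ∀ c < 9, cn 9 c Y = cn 9 c Z := by
    intro c hc
    rw [← count_vecL Y hc, ← count_vecL Z hc, hZ3]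
  have h4 := allAlc_spec th8 9 _ (by decide) check9 Z hZ1 hZ2
  have h5 : invB 9 2 R8 Z = true := by
    refine invB_of (by norm_num) tab8 len8 ?_
    have h6 := hZ3.symm ▸ h2
    exact h6
  rw [h5, cond_true, decide_eq_true_iff] at h4
  rw [h3 0 (by norm_num), h3 1 (by norm_num), h3 3 (by norm_num)]
  exact h4

end Cfsg.Agent.H259.L64
end

-- part: H259/L64/Sixty
section
/-!
# S5915, block K3: a multiset of root values modulo 63 which does not occur
-/

set_option autoImplicit false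
set_option maxRecDepth 100000

namespace Cfsg.Agent.H259.L64

open Cfsg Cfsg.Lie
open Cfsg.Agent.ChevalleyStructure Cfsg.Agent.ChevalleyStructure.CoxeterGeomTypes
open Cfsg.Agent.H942.E8Tab Cfsg.Agent.H942.E8Alc Cfsg.Agent.H942.E8Val
open Cfsg.Agent.H944.RootVals Cfsg.Agent.H944.Tab Cfsg.Agent.H944.Kac

/-! ### the search -/

/-- `f n`, with `n` evaluated first -/
def frc (n : ℕ) (f : ℕ → Bool) : Bool := Nat.rec (f 0) (fun m _ => f (m + 1)) n

theorem frc_eq (n : ℕ) (f : ℕ → Bool) : frc n f = f n := by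
  cases n <;> rfl

/-- hexadecimal digit -/
def dg (c s : ℕ) : ℕ := c / 16 ^ s % 16

theorem dg_sub {c s : ℕ} (h : dg c s ≠ 0) (j : ℕ) : dg (c - 16 ^ s) j = dg c j - (if s = j then 1 else 0) := by
  unfold dg at h ⊢
  have h16 : ∀ n, 0 < 16 ^ n := fun n => by positivity
  obtain ⟨q, d, r, hr, hd, hd0, hc⟩ : ∃ q d r, r < 16 ^ s ∧ d < 16 ∧ d ≠ 0 ∧ c = 16 ^ s * (16 * q + d) + r := by
    refine ⟨c / 16 ^ s / 16, c / 16 ^ s % 16, c % 16 ^ s, Nat.mod_lt _ (h16 s), Nat.mod_lt _ (by norm_num), h, ?_⟩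
    rw [Nat.div_add_mod, Nat.div_add_mod]
  have hc' : c - 16 ^ s = 16 ^ s * (16 * q + (d - 1)) + r := by
    obtain ⟨e, rfl⟩ : ∃ e, d = e + 1 := ⟨d - 1, by omega⟩
    rw [hc, Nat.add_sub_cancel, show 16 * q + (e + 1) = (16 * q + e) + 1 by ring, mul_add, mul_one]
    omega
  rw [hc', hc]
  rcases lt_trichotomy s j with hj | hj | hj
  · obtain ⟨k, rfl⟩ : ∃ k, j = s + (k + 1) := ⟨j - s - 1, by omega⟩
    rw [if_neg (by omega), Nat.sub_zero, pow_add, ← Nat.div_div_eq_div_mul, ← Nat.div_div_eq_div_mul,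
      Nat.mul_add_div (h16 s), Nat.mul_add_div (h16 s), Nat.div_eq_of_lt hr, add_zero, add_zero, pow_succ',
      ← Nat.div_div_eq_div_mul, ← Nat.div_div_eq_div_mul, Nat.mul_add_div (by norm_num), Nat.mul_add_div (by norm_num),
      Nat.div_eq_of_lt hd, Nat.div_eq_of_lt (show d - 1 < 16 by omega)]
  · subst hj
    rw [if_pos rfl, Nat.mul_add_div (h16 s), Nat.mul_add_div (h16 s), Nat.div_eq_of_lt hr, add_zero, add_zero,
      Nat.mul_add_mod, Nat.mul_add_mod, Nat.mod_eq_of_lt hd, Nat.mod_eq_of_lt (by omega)]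
  · obtain ⟨k, rfl⟩ : ∃ k, s = j + (k + 1) := ⟨s - j - 1, by omega⟩
    rw [if_neg (by omega), Nat.sub_zero]
    have h1 : ∀ m, (16 ^ (j + (k + 1)) * m + r) / 16 ^ j % 16 = r / 16 ^ j % 16 := by
      intro m
      rw [show 16 ^ (j + (k + 1)) * m = 16 ^ j * (16 * (16 ^ k * m)) by rw [pow_add, pow_succ]; ring,
        Nat.mul_add_div (h16 j), Nat.mul_add_mod]
    rw [h1, h1]

/-- subtract the values of the roots of one level from the capacities -/
def stp : List (List ℕ) → List ℕ → ℕ → (ℕ → Bool) → Bool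
  | [], _, cap, k => k cap
  | r :: rs, a, cap, k =>
    frc (dotN r a % 63) fun s => bif Nat.beq (dg cap s) 0 then false else
      frc (cap - 16 ^ s) fun cap1 => frc ((63 - s) % 63) fun s' => bif Nat.beq (dg cap1 s') 0 then false else
        frc (cap1 - 16 ^ s') fun cap2 => stp rs a cap2 k

/-- the tree search -/
def srch : List (ℕ × List (List ℕ)) → List ℕ → ℕ → Bool
  | [], _, _ => true
  | (b, rs) :: L, a, cap => (List.range 7).any fun c => frc (b + 9 * c) fun x => stp rs (x :: a) cap fun cap' =>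
      srch L (x :: a) cap'

/-- the values of the roots of a list -/
def vals (rs : List (List ℕ)) (a : List ℕ) : List ℕ :=
  rs.flatMap fun r => [dotN r a % 63, (63 - dotN r a % 63) % 63]

theorem stp_spec (a rest : List ℕ) (k : ℕ → Bool) (hk : ∀ cap, (∀ j, rest.count j ≤ dg cap j) → k cap = true) :
    ∀ (rs : List (List ℕ)) (cap : ℕ), (∀ j, (vals rs a ++ rest).count j ≤ dg cap j) → stp rs a cap k = true := by
  intro rs
  induction rs with
  | nil =>
    intro cap h
    exact hk cap h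
  | cons r rs ih =>
    intro cap h
    have hv : vals (r :: rs) a = (dotN r a % 63) :: ((63 - dotN r a % 63) % 63) :: vals rs a := rfl
    rw [hv] at h
    simp only [stp, frc_eq]
    generalize dotN r a % 63 = s at h ⊢
    generalize (63 - s) % 63 = s' at h ⊢
    have h1 : dg cap s ≠ 0 := by
      have := h s
      rw [List.cons_append, List.count_cons_self] at this
      omega
    have h2 : ∀ j, (s' :: (vals rs a ++ rest)).count j ≤ dg (cap - 16 ^ s) j := by
      intro j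
      have := h j
      rw [List.cons_append, List.count_cons, List.cons_append] at this
      rw [dg_sub h1 j]
      by_cases hj : s = j
      · subst hj
        simp only [beq_self_eq_true, if_true] at this ⊢
        omega
      · rw [if_neg (by simpa using hj)] at this
        rw [if_neg hj]
        omega
    have h3 : dg (cap - 16 ^ s) s' ≠ 0 := by
      have := h2 s'
      rw [List.count_cons_self] at this
      omega
    have h4 : ∀ j, (vals rs a ++ rest).count j ≤ dg (cap - 16 ^ s - 16 ^ s') j := by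
      intro j
      have := h2 j
      rw [List.count_cons] at this
      rw [dg_sub h3 j]
      by_cases hj : s' = j
      · subst hj
        simp only [beq_self_eq_true, if_true] at this ⊢
        omega
      · rw [if_neg (by simpa using hj)] at this
        rw [if_neg hj]
        omega
    rw [nbeq_false h1, cond_false, nbeq_false h3, cond_false]
    exact ih _ h4

/-- all the values, for the choices `cs` -/
def tot : List (ℕ × List (List ℕ)) → List ℕ → List ℕ → List ℕ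
  | (b, rs) :: L, c :: cs, a => vals rs ((b + 9 * c) :: a) ++ tot L cs ((b + 9 * c) :: a)
  | _, _, _ => []

theorem srch_spec : ∀ (L : List (ℕ × List (List ℕ))) (cs a : List ℕ) (cap : ℕ), cs.length = L.length →
    (∀ c ∈ cs, c < 7) → (∀ j, (tot L cs a).count j ≤ dg cap j) → srch L a cap = true := by
  intro L
  induction L with
  | nil => intro cs a cap _ _ _; rfl
  | cons p L ih =>
    obtain ⟨b, rs⟩ := p
    intro cs a cap hl hc h
    cases cs with
    | nil => simp at hl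
    | cons c cs =>
      rw [srch, List.any_eq_true]
      refine ⟨c, List.mem_range.2 (hc c (List.mem_cons_self)), ?_⟩
      rw [frc_eq]
      refine stp_spec _ (tot L cs ((b + 9 * c) :: a)) _ (fun cap' hcap => ?_) rs cap h
      exact ih cs _ cap' (by simpa using hl) (fun d hd => hc d (List.mem_cons_of_mem _ hd)) hcap

/-! ### the table -/

def rs1 : List (List ℕ) :=
    [[1]]

def rs2 : List (List ℕ) :=
    [[1, 0], [1, 1]]

def rs3 : List (List ℕ) :=
    [[1, 0, 0], [1, 1, 0], [1, 1, 1]]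

def rs4 : List (List ℕ) :=
    [[1, 0, 0, 0], [1, 1, 0, 0], [1, 1, 1, 0], [1, 1, 1, 1]]

def rs5 : List (List ℕ) :=
    [[1, 0, 0, 0, 0]]

def rs6 : List (List ℕ) :=
    [[1, 0, 0, 0, 0, 0], [1, 1, 0, 0, 0, 0], [1, 0, 1, 0, 0, 0], [1, 1, 1, 0, 0, 0], [1, 0, 1, 1, 0, 0], [1, 1, 1,
    1, 0, 0], [1, 0, 1, 1, 1, 0], [1, 1, 1, 1, 1, 0], [1, 0, 1, 1, 1, 1], [1, 1, 1, 1, 1, 1]]

def rs7 : List (List ℕ) :=
    [[1, 0, 0, 0, 0, 0, 0], [1, 0, 0, 0, 0, 1, 0], [1, 0, 0, 0, 1, 1, 0], [1, 0, 0, 1, 1, 1, 0], [1, 1, 0, 1, 1,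
    1, 0], [1, 1, 1, 1, 1, 1, 0], [1, 0, 0, 0, 0, 1, 1], [1, 0, 0, 0, 1, 1, 1], [1, 0, 0, 1, 1, 1, 1], [1, 1, 0,
    1, 1, 1, 1], [1, 1, 1, 1, 1, 1, 1], [1, 0, 0, 0, 1, 2, 1], [1, 0, 0, 1, 1, 2, 1], [1, 1, 0, 1, 1, 2, 1], [1,
    1, 1, 1, 1, 2, 1], [1, 0, 0, 1, 2, 2, 1], [1, 1, 0, 1, 2, 2, 1], [1, 1, 1, 1, 2, 2, 1], [1, 1, 0, 2, 2, 2, 1],
    [1, 1, 1, 2, 2, 2, 1], [1, 2, 1, 2, 2, 2, 1]]

def rs8 : List (List ℕ) :=
    [[1, 0, 0, 0, 0, 0, 0, 0], [1, 0, 0, 0, 0, 0, 0, 1], [1, 0, 0, 0, 0, 0, 1, 1], [1, 0, 0, 0, 0, 1, 1, 1], [1,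
    0, 0, 0, 1, 1, 1, 1], [1, 0, 1, 0, 1, 1, 1, 1], [1, 0, 1, 1, 1, 1, 1, 1], [1, 1, 0, 0, 0, 0, 1, 1], [1, 1, 0,
    0, 0, 1, 1, 1], [1, 1, 0, 0, 1, 1, 1, 1], [1, 1, 1, 0, 1, 1, 1, 1], [1, 1, 1, 1, 1, 1, 1, 1], [1, 1, 0, 0, 0,
    1, 2, 1], [1, 1, 0, 0, 1, 1, 2, 1], [1, 1, 1, 0, 1, 1, 2, 1], [1, 1, 1, 1, 1, 1, 2, 1], [1, 1, 0, 0, 1, 2, 2,
    1], [1, 1, 1, 0, 1, 2, 2, 1], [1, 1, 1, 1, 1, 2, 2, 1], [1, 1, 1, 0, 2, 2, 2, 1], [1, 1, 1, 1, 2, 2, 2, 1],
    [1, 1, 2, 1, 2, 2, 2, 1], [1, 1, 0, 0, 0, 1, 2, 2], [1, 1, 0, 0, 1, 1, 2, 2], [1, 1, 1, 0, 1, 1, 2, 2], [1, 1,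
    1, 1, 1, 1, 2, 2], [1, 1, 0, 0, 1, 2, 2, 2], [1, 1, 1, 0, 1, 2, 2, 2], [1, 1, 1, 1, 1, 2, 2, 2], [1, 1, 1, 0,
    2, 2, 2, 2], [1, 1, 1, 1, 2, 2, 2, 2], [1, 1, 2, 1, 2, 2, 2, 2], [1, 1, 0, 0, 1, 2, 3, 2], [1, 1, 1, 0, 1, 2,
    3, 2], [1, 1, 1, 1, 1, 2, 3, 2], [1, 1, 1, 0, 2, 2, 3, 2], [1, 1, 1, 1, 2, 2, 3, 2], [1, 1, 2, 1, 2, 2, 3, 2],
    [1, 1, 1, 0, 2, 3, 3, 2], [1, 1, 1, 1, 2, 3, 3, 2], [1, 1, 2, 1, 2, 3, 3, 2], [1, 1, 2, 1, 3, 3, 3, 2], [1, 2,
    0, 0, 1, 2, 3, 2], [1, 2, 1, 0, 1, 2, 3, 2], [1, 2, 1, 1, 1, 2, 3, 2], [1, 2, 1, 0, 2, 2, 3, 2], [1, 2, 1, 1,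
    2, 2, 3, 2], [1, 2, 2, 1, 2, 2, 3, 2], [1, 2, 1, 0, 2, 3, 3, 2], [1, 2, 1, 1, 2, 3, 3, 2], [1, 2, 2, 1, 2, 3,
    3, 2], [1, 2, 2, 1, 3, 3, 3, 2], [1, 2, 1, 0, 2, 3, 4, 2], [1, 2, 1, 1, 2, 3, 4, 2], [1, 2, 2, 1, 2, 3, 4, 2],
    [1, 2, 2, 1, 3, 3, 4, 2], [1, 2, 2, 1, 3, 4, 4, 2], [1, 2, 1, 0, 2, 3, 4, 3], [1, 2, 1, 1, 2, 3, 4, 3], [1, 2,
    2, 1, 2, 3, 4, 3], [1, 2, 2, 1, 3, 3, 4, 3], [1, 2, 2, 1, 3, 4, 4, 3], [1, 2, 2, 1, 3, 4, 5, 3], [1, 3, 2, 1,
    3, 4, 5, 3], [2, 2, 1, 0, 2, 3, 4, 3], [2, 2, 1, 1, 2, 3, 4, 3], [2, 2, 2, 1, 2, 3, 4, 3], [2, 2, 2, 1, 3, 3,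
    4, 3], [2, 2, 2, 1, 3, 4, 4, 3], [2, 2, 2, 1, 3, 4, 5, 3], [2, 2, 2, 1, 3, 4, 5, 4], [2, 3, 2, 1, 3, 4, 5, 3],
    [2, 3, 2, 1, 3, 4, 5, 4], [2, 3, 2, 1, 3, 4, 6, 4], [2, 3, 2, 1, 3, 5, 6, 4], [2, 3, 2, 1, 4, 5, 6, 4], [2, 3,
    3, 1, 4, 5, 6, 4], [2, 3, 3, 2, 4, 5, 6, 4]]

def lv : List (ℕ × List (List ℕ)) :=
  [(0, rs1), (0, rs2), (0, rs3), (0, rs4), (0, rs5), (1, rs6), (1, rs7), (1, rs8)]

/-- the capacities -/
def cap63 : ℕ := 3371939718875053650768756101083130245424723860180309122337449246811573667700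

private noncomputable def _root_.Cfsg.Agent.LsF.f62a1b5_10 : {f // @Cfsg.Agent.H259.L64.frc = f} := ⟨_, by first | (delta Cfsg.Agent.H259.L64.frc; rewrite [Cfsg.Agent.LsF.nadd_pat]; exact rfl) | exact rfl⟩
private noncomputable def _root_.Cfsg.Agent.LsF.f62a1b5_11 : {f // @Cfsg.Agent.H259.L64.dg = f} := ⟨_, by first | (delta Cfsg.Agent.H259.L64.dg; rewrite [Cfsg.Agent.LsF.ndiv_pat, Cfsg.Agent.LsF.nmod_pat, Cfsg.Agent.LsF.npow_pat]; exact rfl) | exact rfl⟩
private noncomputable def _root_.Cfsg.Agent.LsF.f62a1b5_12 : {f // @Cfsg.Agent.H259.L64.stp = f} := ⟨_, by first | (delta Cfsg.Agent.H259.L64.stp List.brecOn List.brecOn.go Cfsg.Agent.H259.L64.stp._f; rewrite [Cfsg.Agent.LsF.f62a1b5_10.2, Cfsg.Agent.LsF.f62a1b5_0.2, Cfsg.Agent.LsF.f62a1b5_11.2, Cfsg.Agent.LsF.nsub_pat, Cfsg.Agent.LsF.nmod_pat, Cfsg.Agent.LsF.npow_pat, Cfsg.Agent.LsF.cond_eq]; (try delta Cfsg.Agent.H259.L64.stp.match_1); (try delta List.casesOn); first | dsimp -zeta only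 | exact rfl) | exact rfl⟩
private noncomputable def _root_.Cfsg.Agent.LsF.f62a1b5_13 : {f // @Cfsg.Agent.H259.L64.srch = f} := ⟨_, by first | (delta Cfsg.Agent.H259.L64.srch List.brecOn List.brecOn.go Cfsg.Agent.H259.L64.srch._f; rewrite [Cfsg.Agent.LsF.f62a1b5_10.2, Cfsg.Agent.LsF.f62a1b5_12.2, Cfsg.Agent.LsF.nadd_pat, Cfsg.Agent.LsF.nmul_pat, Cfsg.Agent.LsF.any_eq, Cfsg.Agent.LsF.range_eq]; (try delta Cfsg.Agent.H259.L64.srch.match_1); (try delta List.casesOn Prod.casesOn); first | dsimp -zeta only | exact rfl) | exact rfl⟩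
theorem srch_false : srch lv [] cap63 = false := by ((try (rewrite [Cfsg.Agent.LsF.f62a1b5_13.2])); decide +kernel)

/-- the order of the coordinates (the last is chosen first) -/
def ps : List ℕ := [0, 1, 6, 7, 5, 4, 3, 2]

/-- the level of a root -/
def lev (r : List ℕ) : ℕ := ((ps.map fun i => r.getD i 0).dropWhile fun x => x == 0).length

def Rk (k : ℕ) : List (List ℕ) := R8.filter fun r => lev r == k

/-- the trimmed root -/
def tr (k : ℕ) (r : List ℕ) : List ℕ := (ps.drop (8 - k)).map fun i => r.getD i 0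

private noncomputable def _root_.Cfsg.Agent.LsF.f62a1b5_14 : {f // @Cfsg.Agent.H259.L64.tr = f} := ⟨_, by first | (delta Cfsg.Agent.H259.L64.tr; rewrite [Cfsg.Agent.LsF.nsub_pat, Cfsg.Agent.LsF.map_eq, Cfsg.Agent.LsF.drop_eq, Cfsg.Agent.LsF.getD_eq]; exact rfl) | exact rfl⟩
private noncomputable def _root_.Cfsg.Agent.LsF.f62a1b5_15 : {f // @Cfsg.Agent.H259.L64.lev = f} := ⟨_, by first | (delta Cfsg.Agent.H259.L64.lev List.brecOn List.brecOn.go List.dropWhile._f List.dropWhile; rewrite [Cfsg.Agent.LsF.nbeq_pat, Cfsg.Agent.LsF.map_eq, Cfsg.Agent.LsF.getD_eq, Cfsg.Agent.LsF.length_eq]; (try delta List.getLast?.match_1); (try delta List.filter.match_1); (try delta List.casesOn Bool.casesOn); first | dsimp -zeta only | exact rfl) | exact rfl⟩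
private noncomputable def _root_.Cfsg.Agent.LsF.f62a1b5_16 : {f // @Cfsg.Agent.H259.L64.Rk = f} := ⟨_, by first | (delta Cfsg.Agent.H259.L64.Rk; rewrite [Cfsg.Agent.LsF.f62a1b5_15.2, Cfsg.Agent.LsF.nbeq_pat, Cfsg.Agent.LsF.filter_eq]; exact rfl) | exact rfl⟩
theorem rs_eq : [rs1, rs2, rs3, rs4, rs5, rs6, rs7, rs8] = [1, 2, 3, 4, 5, 6, 7, 8].map fun k => (Rk k).map (tr k) := by
  (refine of_decide_eq_true ?_; (try (rewrite [Cfsg.Agent.LsF.f62a1b5_14.2, Cfsg.Agent.LsF.f62a1b5_16.2, Cfsg.Agent.LsF.instDecEq_eq, Cfsg.Agent.LsF.map_eq, Cfsg.Agent.LsF.dListEq_eq, Cfsg.Agent.LsF.decide_eq])); decide +kernel)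

theorem perm_Rk : (Rk 1 ++ (Rk 2 ++ (Rk 3 ++ (Rk 4 ++ (Rk 5 ++ (Rk 6 ++ (Rk 7 ++ (Rk 8 ++ [])))))))).Perm R8 := by
  (refine of_decide_eq_true ?_; (try (rewrite [Cfsg.Agent.LsF.f62a1b5_16.2, Cfsg.Agent.LsF.lappend_pat, Cfsg.Agent.LsF.instDecEq_eq, Cfsg.Agent.LsF.dListEq_eq, Cfsg.Agent.LsF.dPerm_eq, Cfsg.Agent.LsF.decide_eq])); decide +kernel)

theorem zero_Rk : ∀ k < 9, ∀ r ∈ Rk k, ∀ i ∈ ps.take (8 - k), r.getD i 0 = 0 := by
  decide +kernel

end Cfsg.Agent.H259.L64
end

-- part: H259/L64/Excl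
section
/-!
# S5915, block K3: a multiset of root values modulo 63 which does not occur (2)
-/

set_option autoImplicit false
set_option maxRecDepth 100000

namespace Cfsg.Agent.H259.L64

open Cfsg Cfsg.Lie
open Cfsg.Agent.ChevalleyStructure Cfsg.Agent.ChevalleyStructure.CoxeterGeomTypes
open Cfsg.Agent.H942.E8Tab Cfsg.Agent.H942.E8Alc Cfsg.Agent.H942.E8Val
open Cfsg.Agent.H944.RootVals Cfsg.Agent.H944.Tab Cfsg.Agent.H944.Kac

theorem dotN_map (f g : ℕ → ℕ) (L : List ℕ) : dotN (L.map f) (L.map g) = (L.map fun i => f i * g i).sum := by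
  induction L with
  | nil => rfl
  | cons a L ih => rw [List.map_cons, List.map_cons, dotN, ih, List.map_cons, List.sum_cons]

theorem dotN_ps {r Y : List ℕ} (hr : r.length ≤ 8) : dotN r Y = (ps.map fun i => r.getD i 0 * Y.getD i 0).sum := by
  rw [dotN_eq 8 r Y hr]
  simp only [Fin.sum_univ_eight, ps, List.map_cons, List.map_nil, List.sum_cons, List.sum_nil]
  simp only [Fin.val_zero, Fin.val_one, Fin.val_two]
  show _ = _
  have h3 : ((3 : Fin 8) : ℕ) = 3 := rfl
  have h4 : ((4 : Fin 8) : ℕ) = 4 := rfl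
  have h5 : ((5 : Fin 8) : ℕ) = 5 := rfl
  have h6 : ((6 : Fin 8) : ℕ) = 6 := rfl
  have h7 : ((7 : Fin 8) : ℕ) = 7 := rfl
  rw [h3, h4, h5, h6, h7]
  ring

/-- the value of a trimmed root -/
theorem dotN_tr {k : ℕ} (hk : k < 9) {r : List ℕ} (hr : r ∈ Rk k) (Y : List ℕ) :
    dotN (tr k r) ((ps.drop (8 - k)).map fun i => Y.getD i 0) = dotN r Y := by
  have hr8 : r ∈ R8 := (List.mem_filter.1 hr).1
  rw [dotN_ps (len8 r hr8), tr, dotN_map]
  conv_rhs => rw [← List.take_append_drop (8 - k) ps, List.map_append, List.sum_append]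
  have h1 : ((ps.take (8 - k)).map fun i => r.getD i 0 * Y.getD i 0).sum = 0 := by
    refine List.sum_eq_zero fun x hx => ?_
    obtain ⟨i, hi, rfl⟩ := List.mem_map.1 hx
    rw [zero_Rk k hk r hr i hi, zero_mul]
  rw [h1, zero_add]

/-- the values of one level -/
theorem vals_level {k : ℕ} (hk : k < 9) (Y : List ℕ) :
    vals ((Rk k).map (tr k)) ((ps.drop (8 - k)).map fun i => Y.getD i 0) = vals (Rk k) Y := by
  unfold vals
  rw [List.flatMap_map]
  refine List.flatMap_congr fun r hr => ?_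
  rw [dotN_tr hk hr]

theorem vals_append (A B : List (List ℕ)) (a : List ℕ) : vals (A ++ B) a = vals A a ++ vals B a := by
  unfold vals
  rw [List.flatMap_append]

theorem count_vals (j : ℕ) (Y : List ℕ) (R : List (List ℕ)) :
    (vals R Y).count j = sumH (fun t => ib (t % 63) j + ib ((63 - t % 63) % 63) j) R Y := by
  induction R with
  | nil => rfl
  | cons r R ih =>
    have hv : vals (r :: R) Y = (dotN r Y % 63) :: ((63 - dotN r Y % 63) % 63) :: vals R Y := rfl
    rw [hv, sumH, List.count_cons, List.count_cons, ih, ib_eq, ib_eq]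
    simp only [beq_iff_eq]
    ring

/-- no vector congruent to `(1, 1, 0, 0, 0, 0, 1, 0)` modulo 9 has the given root values modulo 63 -/
theorem no_list (Y : List ℕ) (hlt : ∀ i < 8, Y.getD i 0 < 63)
    (h9 : ∀ i < 8, Y.getD i 0 % 9 = [1, 1, 0, 0, 0, 0, 1, 0].getD i 0) (hc : ∀ j, cn 63 j Y ≤ dg cap63 j) : False := by
  let cs : List ℕ := [2, 3, 4, 5, 7, 6, 1, 0].map fun i => Y.getD i 0 / 9
  have hcs : ∀ c ∈ cs, c < 7 := by
    intro c hc
    obtain ⟨i, hi, rfl⟩ := List.mem_map.1 hc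
    have : i < 8 := by
      simp only [List.mem_cons, List.not_mem_nil, or_false] at hi
      omega
    have := hlt i this
    omega
  have hy : ∀ i < 8, ∀ b, [1, 1, 0, 0, 0, 0, 1, 0].getD i 0 = b → b + 9 * (Y.getD i 0 / 9) = Y.getD i 0 := by
    intro i hi b hb
    have := h9 i hi
    omega
  have hrs := rs_eq
  simp only [List.map_cons, List.map_nil, List.cons.injEq, and_true] at hrs
  obtain ⟨e1, e2, e3, e4, e5, e6, e7, e8⟩ := hrs
  have htot : tot lv cs [] = vals (Rk 1 ++ (Rk 2 ++ (Rk 3 ++ (Rk 4 ++ (Rk 5 ++ (Rk 6 ++ (Rk 7 ++ (Rk 8 ++ [])))))))) Y := by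
    rw [vals_append, vals_append, vals_append, vals_append, vals_append, vals_append, vals_append, vals_append,
      ← vals_level (k := 1) (by norm_num), ← vals_level (k := 2) (by norm_num), ← vals_level (k := 3) (by norm_num),
      ← vals_level (k := 4) (by norm_num), ← vals_level (k := 5) (by norm_num), ← vals_level (k := 6) (by norm_num),
      ← vals_level (k := 7) (by norm_num), ← vals_level (k := 8) (by norm_num), ← e1, ← e2, ← e3, ← e4, ← e5, ← e6,
      ← e7, ← e8]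
    show vals rs1 _ ++ (vals rs2 _ ++ (vals rs3 _ ++ (vals rs4 _ ++ (vals rs5 _ ++ (vals rs6 _ ++ (vals rs7 _ ++
      (vals rs8 _ ++ []))))))) = _
    rw [hy 2 (by norm_num) 0 rfl, hy 3 (by norm_num) 0 rfl, hy 4 (by norm_num) 0 rfl, hy 5 (by norm_num) 0 rfl,
      hy 7 (by norm_num) 0 rfl, hy 6 (by norm_num) 1 rfl, hy 1 (by norm_num) 1 rfl, hy 0 (by norm_num) 1 rfl]
    rfl
  have h1 : srch lv [] cap63 = true := by
    refine srch_spec lv cs [] cap63 rfl hcs fun j => ?_
    rw [htot]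
    refine le_trans (le_of_eq ?_) (hc j)
    rw [cn, ← count_vals]
    refine List.Perm.count_eq ?_ j
    unfold vals
    exact perm_Rk.flatMap_right _
  rw [srch_false] at h1
  exact Bool.noConfusion h1

/-- every vector can be moved so that it is in the alcove -/
theorem exists_alcP {N : ℕ} (hN : 0 < N) (P : (Fin 8 → ZMod N) → Prop) (hPs : ∀ w j, P w → P (srefl chevE8 8 j w))
    {v : Fin 8 → ZMod N} (hv : P v) : ∃ Y : List ℕ, Y.length = 8 ∧ dotN th8 Y ≤ N ∧ P (vecL N Y) := by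
  obtain ⟨y, hy, hθ⟩ := exists_alcove e8T (N := N) hN _ _ 60 (by norm_num) theta8
    (by decide) _ pos8 P hPs (v₀ := v) hv
  let Y : List ℕ := List.ofFn y
  have hY : ∀ i : Fin 8, Y.getD i 0 = y i := by
    intro i
    rw [List.getD_eq_getElem _ _ (by rw [List.length_ofFn]; exact i.2), List.getElem_ofFn]
  refine ⟨Y, by simp [Y], ?_, ?_⟩
  · rw [dotN_eq 8 th8 Y (by decide)]
    have h2 : ∑ i : Fin 8, th8.getD i 0 * Y.getD i 0 = ∑ i : Fin 8, th8.getD i 0 * y i :=
      Finset.sum_congr rfl fun i _ => by rw [hY]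
    rw [h2]
    simp only [Fin.sum_univ_eight, Matrix.cons_val] at hθ ⊢
    simp only [th8, List.getD_cons_zero, List.getD_cons_succ, Fin.val_zero, Fin.val_one, Fin.val_two] at hθ ⊢
    norm_num only [_root_.Fin.coe_ofNat_eq_mod, _root_.List.getD_eq_getElem?_getD, _root_.List.length_cons, _root_.List.length_nil, _root_.zero_add, _root_.getElem?_pos, _root_.List.getElem_cons_succ, _root_.List.getElem_cons_zero, _root_.Option.getD_some, _root_.Nat.lt_add_one, _root_.ge_iff_le] at hθ ⊢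
    (clear * - hθ; solve | lia | omega)
  · have : vecL N Y = fun i => ((y i : ℕ) : ZMod N) := by
      funext i
      unfold vecL
      rw [hY]
    rw [this]
    exact hy

theorem check9' : allAlc th8 9 (fun Y => bif invB 9 2 R8 Y then
    (bif Nat.beq (cn 9 0 Y) 22 then decide (Y = [1, 1, 0, 0, 0, 0, 1, 0]) else true) else true) = true := by
  delta cn
  rw [invS_eq, sumS_eq]
  decide +kernel

/-- folding modulo 9 -/
theorem ib_fold : ∀ s < 63, ∀ a < 9, ((List.range 7).map fun i => ib s (a + 9 * i)).sum = ib (s % 9) a := by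
  (refine of_decide_eq_true ?_; (try (rewrite [Cfsg.Agent.LsF.f62a1b5_5.2, Cfsg.Agent.LsF.nadd_pat, Cfsg.Agent.LsF.nmul_pat, Cfsg.Agent.LsF.nmod_pat, Cfsg.Agent.LsF.instDecEq_eq, Cfsg.Agent.LsF.map_eq, Cfsg.Agent.LsF.range_eq, Cfsg.Agent.LsF.sum_eq, Cfsg.Agent.LsF.dBallLT_eq, Cfsg.Agent.LsF.decide_eq])); decide +kernel)

theorem cn_fold (Y : List ℕ) {a : ℕ} (ha : a < 9) : ((List.range 7).map fun i => cn 63 (a + 9 * i) Y).sum = cn 9 a Y := by
  unfold cn
  induction R8 with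
  | nil => rfl
  | cons r R ih =>
    have h1 : (dotN r Y % 63) % 9 = dotN r Y % 9 := by omega
    have h2 : ((63 - dotN r Y % 63) % 63) % 9 = (9 - dotN r Y % 9) % 9 := by (clear * -; solve | lia | omega)
    have e1 := ib_fold (dotN r Y % 63) (Nat.mod_lt _ (by norm_num)) a ha
    have e2 := ib_fold ((63 - dotN r Y % 63) % 63) (Nat.mod_lt _ (by norm_num)) a ha
    rw [h1] at e1
    rw [h2] at e2
    simp only [sumH]
    rw [← e1, ← e2, ← ih, List.sum_map_add, List.sum_map_add]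

end Cfsg.Agent.H259.L64
end

-- part: H259/L64/Arith
section
/-!
# S5915, block K3: the arithmetic of the multiplicities
-/

set_option autoImplicit false
set_option maxRecDepth 100000

namespace Cfsg.Agent.H259.L64

open Cfsg Cfsg.Lie
open Cfsg.Agent.H944.Tab Cfsg.Agent.H939.L64

/-- the rotation classes of masks -/
def orbs : List (List ℕ) :=
  [[31, 62, 61, 59, 55, 47], [0], [23, 46, 29, 58, 53, 43], [13, 26, 52, 41, 19, 38], [15, 30, 60, 57, 51, 39], [63], [21, 42],
   [27, 54, 45], [11, 22, 44, 25, 50, 37], [9, 18, 36], [7, 14, 28, 56, 49, 35], [5, 10, 20, 40, 17, 34],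
   [3, 6, 12, 24, 48, 33], [1, 2, 4, 8, 16, 32]]

/-- the unknown multiplicities -/
def xs (m : ℕ → ℕ) : List ℕ :=
  [m 31, m 0, m 23, m 13, m 15, m 63, m 21, m 27, m 11, m 9, m 7, m 5, m 3, m 1]

/-- the class of a mask -/
def posL : List ℕ := [1, 13, 13, 12, 13, 11, 12, 10, 13, 9, 11, 8, 12, 3, 10, 4, 13, 11, 9, 3, 11, 6, 8, 2, 12, 8, 3, 7,
  10, 2, 4, 0, 13, 12, 11, 10, 9, 8, 3, 4, 11, 3, 6, 2, 8, 7, 2, 0, 12, 10, 8, 4, 3, 2, 7, 0, 10, 4, 2, 0, 4, 0, 0, 5]

/-- the orbit sums of a function -/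
def col (f : ℕ → ℕ) : List ℕ := orbs.map fun o => (o.map f).sum

set_option maxHeartbeats 4000000 in
theorem sum_eq (m f : ℕ → ℕ) (hm : ∀ b < 63, m (2 * b % 63) = m b) :
    ∑ b ∈ Finset.range 64, m b * f b = dotN (xs m) (col f) := by
  have e62 : m 62 = m 31 := hm 31 (by norm_num)
  have e61 : m 61 = m 31 := (hm 62 (by norm_num)).trans e62
  have e59 : m 59 = m 31 := (hm 61 (by norm_num)).trans e61
  have e55 : m 55 = m 31 := (hm 59 (by norm_num)).trans e59
  have e47 : m 47 = m 31 := (hm 55 (by norm_num)).trans e55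
  have e46 : m 46 = m 23 := hm 23 (by norm_num)
  have e29 : m 29 = m 23 := (hm 46 (by norm_num)).trans e46
  have e58 : m 58 = m 23 := (hm 29 (by norm_num)).trans e29
  have e53 : m 53 = m 23 := (hm 58 (by norm_num)).trans e58
  have e43 : m 43 = m 23 := (hm 53 (by norm_num)).trans e53
  have e26 : m 26 = m 13 := hm 13 (by norm_num)
  have e52 : m 52 = m 13 := (hm 26 (by norm_num)).trans e26
  have e41 : m 41 = m 13 := (hm 52 (by norm_num)).trans e52
  have e19 : m 19 = m 13 := (hm 41 (by norm_num)).trans e41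
  have e38 : m 38 = m 13 := (hm 19 (by norm_num)).trans e19
  have e30 : m 30 = m 15 := hm 15 (by norm_num)
  have e60 : m 60 = m 15 := (hm 30 (by norm_num)).trans e30
  have e57 : m 57 = m 15 := (hm 60 (by norm_num)).trans e60
  have e51 : m 51 = m 15 := (hm 57 (by norm_num)).trans e57
  have e39 : m 39 = m 15 := (hm 51 (by norm_num)).trans e51
  have e42 : m 42 = m 21 := hm 21 (by norm_num)
  have e54 : m 54 = m 27 := hm 27 (by norm_num)
  have e45 : m 45 = m 27 := (hm 54 (by norm_num)).trans e54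
  have e22 : m 22 = m 11 := hm 11 (by norm_num)
  have e44 : m 44 = m 11 := (hm 22 (by norm_num)).trans e22
  have e25 : m 25 = m 11 := (hm 44 (by norm_num)).trans e44
  have e50 : m 50 = m 11 := (hm 25 (by norm_num)).trans e25
  have e37 : m 37 = m 11 := (hm 50 (by norm_num)).trans e50
  have e18 : m 18 = m 9 := hm 9 (by norm_num)
  have e36 : m 36 = m 9 := (hm 18 (by norm_num)).trans e18
  have e14 : m 14 = m 7 := hm 7 (by norm_num)
  have e28 : m 28 = m 7 := (hm 14 (by norm_num)).trans e14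
  have e56 : m 56 = m 7 := (hm 28 (by norm_num)).trans e28
  have e49 : m 49 = m 7 := (hm 56 (by norm_num)).trans e56
  have e35 : m 35 = m 7 := (hm 49 (by norm_num)).trans e49
  have e10 : m 10 = m 5 := hm 5 (by norm_num)
  have e20 : m 20 = m 5 := (hm 10 (by norm_num)).trans e10
  have e40 : m 40 = m 5 := (hm 20 (by norm_num)).trans e20
  have e17 : m 17 = m 5 := (hm 40 (by norm_num)).trans e40
  have e34 : m 34 = m 5 := (hm 17 (by norm_num)).trans e17
  have e6 : m 6 = m 3 := hm 3 (by norm_num)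
  have e12 : m 12 = m 3 := (hm 6 (by norm_num)).trans e6
  have e24 : m 24 = m 3 := (hm 12 (by norm_num)).trans e12
  have e48 : m 48 = m 3 := (hm 24 (by norm_num)).trans e24
  have e33 : m 33 = m 3 := (hm 48 (by norm_num)).trans e48
  have e2 : m 2 = m 1 := hm 1 (by norm_num)
  have e4 : m 4 = m 1 := (hm 2 (by norm_num)).trans e2
  have e8 : m 8 = m 1 := (hm 4 (by norm_num)).trans e4
  have e16 : m 16 = m 1 := (hm 8 (by norm_num)).trans e8
  have e32 : m 32 = m 1 := (hm 16 (by norm_num)).trans e16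
  simp only [Finset.sum_range_succ, Finset.sum_range_zero, e62, e61, e59, e55, e47, e46, e29, e58, e53, e43, e26, e52, e41, e19, e38, e30, e60, e57, e51, e39, e42, e54, e45, e22, e44, e25, e50, e37, e18, e36, e14, e28, e56, e49, e35, e10, e20, e40, e17, e34, e6, e12, e24, e48, e33, e2, e4, e8, e16, e32, xs, col, orbs, List.map_cons, List.map_nil,
    List.sum_cons, List.sum_nil, dotN]
  ring

set_option maxHeartbeats 4000000 in
theorem m_eq (m : ℕ → ℕ) (hm : ∀ b < 63, m (2 * b % 63) = m b) :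
    ∀ b < 64, m b = (xs m).getD (posL.getD b 0) 0 := by
  have e62 : m 62 = m 31 := hm 31 (by norm_num)
  have e61 : m 61 = m 31 := (hm 62 (by norm_num)).trans e62
  have e59 : m 59 = m 31 := (hm 61 (by norm_num)).trans e61
  have e55 : m 55 = m 31 := (hm 59 (by norm_num)).trans e59
  have e47 : m 47 = m 31 := (hm 55 (by norm_num)).trans e55
  have e46 : m 46 = m 23 := hm 23 (by norm_num)
  have e29 : m 29 = m 23 := (hm 46 (by norm_num)).trans e46
  have e58 : m 58 = m 23 := (hm 29 (by norm_num)).trans e29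
  have e53 : m 53 = m 23 := (hm 58 (by norm_num)).trans e58
  have e43 : m 43 = m 23 := (hm 53 (by norm_num)).trans e53
  have e26 : m 26 = m 13 := hm 13 (by norm_num)
  have e52 : m 52 = m 13 := (hm 26 (by norm_num)).trans e26
  have e41 : m 41 = m 13 := (hm 52 (by norm_num)).trans e52
  have e19 : m 19 = m 13 := (hm 41 (by norm_num)).trans e41
  have e38 : m 38 = m 13 := (hm 19 (by norm_num)).trans e19
  have e30 : m 30 = m 15 := hm 15 (by norm_num)
  have e60 : m 60 = m 15 := (hm 30 (by norm_num)).trans e30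
  have e57 : m 57 = m 15 := (hm 60 (by norm_num)).trans e60
  have e51 : m 51 = m 15 := (hm 57 (by norm_num)).trans e57
  have e39 : m 39 = m 15 := (hm 51 (by norm_num)).trans e51
  have e42 : m 42 = m 21 := hm 21 (by norm_num)
  have e54 : m 54 = m 27 := hm 27 (by norm_num)
  have e45 : m 45 = m 27 := (hm 54 (by norm_num)).trans e54
  have e22 : m 22 = m 11 := hm 11 (by norm_num)
  have e44 : m 44 = m 11 := (hm 22 (by norm_num)).trans e22
  have e25 : m 25 = m 11 := (hm 44 (by norm_num)).trans e44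
  have e50 : m 50 = m 11 := (hm 25 (by norm_num)).trans e25
  have e37 : m 37 = m 11 := (hm 50 (by norm_num)).trans e50
  have e18 : m 18 = m 9 := hm 9 (by norm_num)
  have e36 : m 36 = m 9 := (hm 18 (by norm_num)).trans e18
  have e14 : m 14 = m 7 := hm 7 (by norm_num)
  have e28 : m 28 = m 7 := (hm 14 (by norm_num)).trans e14
  have e56 : m 56 = m 7 := (hm 28 (by norm_num)).trans e28
  have e49 : m 49 = m 7 := (hm 56 (by norm_num)).trans e56
  have e35 : m 35 = m 7 := (hm 49 (by norm_num)).trans e49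
  have e10 : m 10 = m 5 := hm 5 (by norm_num)
  have e20 : m 20 = m 5 := (hm 10 (by norm_num)).trans e10
  have e40 : m 40 = m 5 := (hm 20 (by norm_num)).trans e20
  have e17 : m 17 = m 5 := (hm 40 (by norm_num)).trans e40
  have e34 : m 34 = m 5 := (hm 17 (by norm_num)).trans e17
  have e6 : m 6 = m 3 := hm 3 (by norm_num)
  have e12 : m 12 = m 3 := (hm 6 (by norm_num)).trans e6
  have e24 : m 24 = m 3 := (hm 12 (by norm_num)).trans e12
  have e48 : m 48 = m 3 := (hm 24 (by norm_num)).trans e24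
  have e33 : m 33 = m 3 := (hm 48 (by norm_num)).trans e48
  have e2 : m 2 = m 1 := hm 1 (by norm_num)
  have e4 : m 4 = m 1 := (hm 2 (by norm_num)).trans e2
  have e8 : m 8 = m 1 := (hm 4 (by norm_num)).trans e4
  have e16 : m 16 = m 1 := (hm 8 (by norm_num)).trans e8
  have e32 : m 32 = m 1 := (hm 16 (by norm_num)).trans e16
  intro b hb
  interval_cases b <;> first | rfl | assumption

/-- the equations: eigenvalues `0, 1, 3, 5, 7, 11, 13` modulo 65 and `0, 1, 3` modulo 9 -/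
def fs (j b : ℕ) : ℕ :=
  if j < 7 then w65 b ([0, 1, 3, 5, 7, 11, 13].getD j 0)
  else ((List.range 7).map fun i => w63 b ([0, 1, 3].getD (j - 7) 0 + 9 * i)).sum

/-- the matrix of the system -/
def Ws : List (List ℕ) :=
  [[0, 1, 3, 3, 3, 5, 3, 24, 22, 18], [1, 0, 0, 0, 0, 0, 0, 1, 0, 0], [0, 0, 1, 1, 1, 4, 3, 12, 10, 12],
   [0, 0, 1, 1, 0, 1, 3, 0, 6, 6], [0, 1, 1, 2, 2, 1, 3, 12, 10, 12], [0, 1, 1, 1, 1, 1, 1, 8, 7, 7],
   [0, 0, 0, 0, 0, 1, 1, 0, 2, 2], [0, 0, 0, 1, 1, 2, 0, 12, 5, 3], [0, 0, 0, 1, 2, 1, 0, 12, 6, 0],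
   [0, 0, 0, 0, 1, 0, 0, 6, 1, 0], [0, 1, 1, 1, 1, 0, 0, 0, 6, 6], [0, 0, 1, 1, 0, 0, 0, 0, 2, 6],
   [0, 1, 1, 0, 0, 0, 0, 0, 2, 6], [0, 1, 0, 0, 0, 0, 0, 0, 2, 0]]

private noncomputable def _root_.Cfsg.Agent.LsF.f62a1b5_17 : {f // @Cfsg.Agent.H259.L64.col = f} := ⟨_, by first | (delta Cfsg.Agent.H259.L64.col; rewrite [Cfsg.Agent.LsF.map_eq, Cfsg.Agent.LsF.sum_eq]; exact rfl) | exact rfl⟩
private noncomputable def _root_.Cfsg.Agent.LsF.f62a1b5_18 : {f // @Cfsg.Agent.H939.L64.subm = f} := ⟨_, by first | (delta Cfsg.Agent.H939.L64.subm; rewrite [Cfsg.Agent.LsF.nadd_pat, Cfsg.Agent.LsF.nand_pat, Cfsg.Agent.LsF.nbeq_pat, Cfsg.Agent.LsF.filter_eq, Cfsg.Agent.LsF.range_eq]; exact rfl) | exact rfl⟩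
private noncomputable def _root_.Cfsg.Agent.LsF.f62a1b5_19 : {f // @Cfsg.Agent.H939.L64.w65 = f} := ⟨_, by first | (delta Cfsg.Agent.H939.L64.w65; rewrite [Cfsg.Agent.LsF.f62a1b5_18.2, Cfsg.Agent.LsF.nadd_pat, Cfsg.Agent.LsF.nmul_pat, Cfsg.Agent.LsF.nmod_pat, Cfsg.Agent.LsF.nbeq_pat, Cfsg.Agent.LsF.filter_eq, Cfsg.Agent.LsF.length_eq]; exact rfl) | exact rfl⟩
private noncomputable def _root_.Cfsg.Agent.LsF.f62a1b5_20 : {f // @Cfsg.Agent.H939.L64.w63 = f} := ⟨_, by first | (delta Cfsg.Agent.H939.L64.w63; rewrite [Cfsg.Agent.LsF.f62a1b5_18.2, Cfsg.Agent.LsF.nadd_pat, Cfsg.Agent.LsF.nmul_pat, Cfsg.Agent.LsF.nmod_pat, Cfsg.Agent.LsF.nbeq_pat, Cfsg.Agent.LsF.filter_eq, Cfsg.Agent.LsF.length_eq]; exact rfl) | exact rfl⟩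
private noncomputable def _root_.Cfsg.Agent.LsF.f62a1b5_21 : {f // @Cfsg.Agent.H259.L64.fs = f} := ⟨_, by first | (delta Cfsg.Agent.H259.L64.fs; rewrite [Cfsg.Agent.LsF.f62a1b5_19.2, Cfsg.Agent.LsF.f62a1b5_20.2, Cfsg.Agent.LsF.nadd_pat, Cfsg.Agent.LsF.nmul_pat, Cfsg.Agent.LsF.nsub_pat, Cfsg.Agent.LsF.decLt_eq, Cfsg.Agent.LsF.map_eq, Cfsg.Agent.LsF.range_eq, Cfsg.Agent.LsF.sum_eq, Cfsg.Agent.LsF.getD_eq, Cfsg.Agent.LsF.ite_eq]; exact rfl) | exact rfl⟩
theorem colW : ∀ j < 10, Ws.map (·.getD j 0) = col (fs j) := by (refine of_decide_eq_true ?_; (try (rewrite [Cfsg.Agent.LsF.f62a1b5_17.2, Cfsg.Agent.LsF.f62a1b5_21.2, Cfsg.Agent.LsF.instDecEq_eq, Cfsg.Agent.LsF.map_eq, Cfsg.Agent.LsF.getD_eq, Cfsg.Agent.LsF.dListEq_eq, Cfsg.Agent.LsF.dBallLT_eq, Cfsg.Agent.LsF.decide_eq])); decide +kernel)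

/-- the solutions -/
def PL : List (List ℕ) :=
  [[0, 12, 0, 0, 0, 0, 2, 1, 0, 4, 2, 0, 0, 1], [0, 8, 0, 0, 0, 1, 2, 0, 1, 0, 0, 3, 0, 2],
   [0, 12, 0, 0, 0, 2, 0, 0, 0, 1, 0, 1, 1, 4], [0, 12, 0, 0, 0, 0, 2, 0, 0, 3, 0, 3, 1, 6]]

private noncomputable def _root_.Cfsg.Agent.LsF.f62a1b5_22 : {f // @Cfsg.Agent.H259.L64.bd = f} := ⟨_, by first | (delta Cfsg.Agent.H259.L64.bd; rewrite [Cfsg.Agent.LsF.ndiv_pat, Cfsg.Agent.LsF.nmin_pat, Cfsg.Agent.LsF.cond_eq, Cfsg.Agent.LsF.foldl_eq, Cfsg.Agent.LsF.range_eq, Cfsg.Agent.LsF.getD_eq]; exact rfl) | exact rfl⟩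
private noncomputable def _root_.Cfsg.Agent.LsF.f62a1b5_23 : {f // @Cfsg.Agent.H259.L64.dead = f} := ⟨_, by first | (delta Cfsg.Agent.H259.L64.dead; rewrite [Cfsg.Agent.LsF.or_eq, Cfsg.Agent.LsF.not_eq, Cfsg.Agent.LsF.all_eq, Cfsg.Agent.LsF.any_eq, Cfsg.Agent.LsF.range_eq, Cfsg.Agent.LsF.getD_eq]; exact rfl) | exact rfl⟩
private noncomputable def _root_.Cfsg.Agent.LsF.f62a1b5_24 : {f // @Cfsg.Agent.H259.L64.sb = f} := ⟨_, by first | (delta Cfsg.Agent.H259.L64.sb; rewrite [Cfsg.Agent.LsF.nmul_pat, Cfsg.Agent.LsF.nsub_pat, Cfsg.Agent.LsF.map_eq, Cfsg.Agent.LsF.range_eq, Cfsg.Agent.LsF.getD_eq]; exact rfl) | exact rfl⟩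
private noncomputable def _root_.Cfsg.Agent.LsF.f62a1b5_25 : {f // @Cfsg.Agent.H259.L64.allSol = f} := ⟨_, by first | (delta Cfsg.Agent.H259.L64.allSol List.brecOn List.brecOn.go Cfsg.Agent.H259.L64.allSol._f; rewrite [Cfsg.Agent.LsF.f62a1b5_22.2, Cfsg.Agent.LsF.f62a1b5_23.2, Cfsg.Agent.LsF.f62a1b5_24.2, Cfsg.Agent.LsF.nadd_pat, Cfsg.Agent.LsF.cond_eq, Cfsg.Agent.LsF.all_eq, Cfsg.Agent.LsF.range_eq]; (try delta Cfsg.Agent.H259.L64.allSol.match_1); (try delta List.casesOn); first | dsimp -zeta only | exact rfl) | exact rfl⟩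
theorem chkSol : ∀ a ∈ L65, ∀ b ∈ L9, allSol 10 248 Ws (a ++ b) (fun x => decide (x ∈ PL)) = true := by
  (refine of_decide_eq_true ?_; (try (rewrite [Cfsg.Agent.LsF.dMemL_pat, Cfsg.Agent.LsF.f62a1b5_25.2, Cfsg.Agent.LsF.lappend_pat, Cfsg.Agent.LsF.instDecEq_eq, Cfsg.Agent.LsF.dBoolEq_eq, Cfsg.Agent.LsF.dBAll_eq, Cfsg.Agent.LsF.decide_eq])); decide +kernel)

theorem wpos : ∀ b < 64, 1 ≤ w65 b b := by (refine of_decide_eq_true ?_; (try (rewrite [Cfsg.Agent.LsF.f62a1b5_19.2, Cfsg.Agent.LsF.decLe_eq, Cfsg.Agent.LsF.dBallLT_eq, Cfsg.Agent.LsF.decide_eq])); decide +kernel)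

theorem pat_eq : ∀ b < 64, ∀ p, p = 1 ∨ p = 2 ∨ p = 3 ∨ p = 4 →
    (PL.getD (p - 1) []).getD (posL.getD b 0) 0 = pat p b := by
  have h : ∀ b < 64, ∀ p < 5, p ≠ 0 → (PL.getD (p - 1) []).getD (posL.getD b 0) 0 = pat p b := by decide +kernel
  intro b hb p hp
  exact h b hb p (by omega) (by omega)

/-- **the arithmetic** -/
theorem arith {m : ℕ → ℕ} (hm : ∀ b < 63, m (2 * b % 63) = m b) {a b : List ℕ} (ha : a ∈ L65) (hb : b ∈ L9)
    (hle : ∀ b < 64, m b ≤ 248) (h : ∀ j < 10, (a ++ b).getD j 0 = ∑ b ∈ Finset.range 64, m b * fs j b) :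
    ∃ p, (p = 1 ∨ p = 2 ∨ p = 3 ∨ p = 4) ∧ ∀ b < 64, m b = pat p b := by
  have h1 := allSol_spec 10 248 Ws (a ++ b) _ (chkSol a ha b hb) (xs m) rfl (by
    intro c hc
    simp only [xs, List.mem_cons, List.not_mem_nil, or_false] at hc
    rcases hc with rfl | rfl | rfl | rfl | rfl | rfl | rfl | rfl | rfl | rfl | rfl | rfl | rfl | rfl <;>
      exact hle _ (by norm_num)) (by
    intro j hj
    rw [h j hj, colW j hj, sum_eq m (fs j) hm])
  rw [decide_eq_true_iff] at h1
  have h2 : ∃ p, (p = 1 ∨ p = 2 ∨ p = 3 ∨ p = 4) ∧ xs m = PL.getD (p - 1) [] := by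
    simp only [PL, List.mem_cons, List.not_mem_nil, or_false] at h1
    rcases h1 with h1 | h1 | h1 | h1
    · exact ⟨1, by simp, h1⟩
    · exact ⟨2, by simp, h1⟩
    · exact ⟨3, by simp, h1⟩
    · exact ⟨4, by simp, h1⟩
  obtain ⟨p, hp, hx⟩ := h2
  refine ⟨p, hp, fun b hb => ?_⟩
  rw [m_eq m hm b hb, hx, pat_eq b hb p hp]

end Cfsg.Agent.H259.L64
end

-- part: H259/L64/KThree
section
/-!
# S5915, block K3: the patterns of composition factors
-/

set_option autoImplicit false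
set_option maxRecDepth 100000

namespace Cfsg.Agent.H259.L64

open Cfsg Cfsg.Lie
open Cfsg.Agent.ChevalleyStructure Cfsg.Agent.ChevalleyStructure.CoxeterGeomTypes
open Cfsg.Agent.H942.E8Tab Cfsg.Agent.H942.E8Alc Cfsg.Agent.H942.E8Val
open Cfsg.Agent.H944.RootVals Cfsg.Agent.H944.Tab Cfsg.Agent.H944.Kac
open Cfsg.Agent.H939.L64

theorem cn_ge {N c : ℕ} (hN : 0 < N) (hc : N ≤ c) (Y : List ℕ) : cn N c Y = 0 := by
  unfold cn
  induction R8 with
  | nil => rfl
  | cons r R ih =>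
    have h1 : dotN r Y % N ≠ c := by
      have := Nat.mod_lt (dotN r Y) hN
      omega
    have h2 : (N - dotN r Y % N) % N ≠ c := by
      have := Nat.mod_lt (N - dotN r Y % N) hN
      omega
    rw [sumH, ih, ib_eq, ib_eq, if_neg h1, if_neg h2]

/-- **the exclusion of the fourth pattern** -/
theorem no63 {v' : Fin 8 → ZMod 63} (h2' : (ms chevE8 8 v').map (fun a => 2 * a) = ms chevE8 8 v')
    (hc : ∀ j : ℕ, j < 63 → (ms chevE8 8 v').count (j : ZMod 63) = dg cap63 j) : False := by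
  let f : ZMod 63 →+* ZMod 9 := ZMod.castHom (by norm_num) (ZMod 9)
  let P : (Fin 8 → ZMod 9) → Prop := fun w => ∃ v : Fin 8 → ZMod 63, (fun i => f (v i)) = w ∧ ms chevE8 8 v = ms chevE8 8 v'
  have hP : ∀ w j, P w → P (srefl chevE8 8 j w) := by
    rintro w j ⟨v, rfl, hv⟩
    refine ⟨srefl chevE8 8 j v, (srefl_map f j v).symm, ?_⟩
    rw [ms_srefl e8T]
    exact hv
  obtain ⟨Z, hZ1, hZ2, v, hv1, hv2⟩ := exists_alcP (N := 9) (by norm_num) P hP (v := fun i => f (v' i)) ⟨v', rfl, rfl⟩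
  obtain ⟨Y, hY1, hY2, hY3⟩ := exists_list v
  have hZY : vecL 9 Z = vecL 9 Y := by
    rw [← hv1]
    funext i
    unfold vecL
    rw [hY3 i]
    show ZMod.castHom _ (ZMod 9) (v i) = _
    rw [ZMod.castHom_apply, ZMod.cast_eq_val]
  have hcY : ∀ j < 63, cn 63 j Y = dg cap63 j := by
    intro j hj
    rw [← count_vecL Y hj, hY2, hv2, hc j hj]
  have hq : ms chevE8 8 v = (ms chevE8 8 v).map (fun a => ((2 : ℕ) : ZMod 63) * a) := by
    rw [hv2]
    exact h2'.symm
  have hinv : invB 9 2 R8 Z = true := by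
    refine invB_of (by norm_num) tab8 len8 ?_
    have h1 := inv_map f hq
    rw [hv1] at h1
    exact h1
  have h0 : cn 9 0 Z = 22 := by
    rw [← count_vecL Z (by norm_num : 0 < 9), hZY, count_vecL Y (by norm_num : 0 < 9), ← cn_fold Y (by norm_num : 0 < 9)]
    have h1 : ((List.range 7).map fun i => cn 63 (0 + 9 * i) Y) = (List.range 7).map fun i => dg cap63 (0 + 9 * i) := by
      refine List.map_congr_left fun i hi => ?_
      have := List.mem_range.1 hi
      exact hcY _ (by omega)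
    rw [h1]
    decide +kernel
  have h4 := allAlc_spec th8 9 _ (by decide) check9' Z hZ1 hZ2
  rw [hinv, cond_true, h0] at h4
  have h5 : Z = [1, 1, 0, 0, 0, 0, 1, 0] := by simpa using h4
  refine no_list Y (fun i hi => ?_) (fun i hi => ?_) fun j => ?_
  · rw [hY3 ⟨i, hi⟩]
    exact ZMod.val_lt _
  · have h6 := congrFun hZY ⟨i, hi⟩
    unfold vecL at h6
    rw [h5] at h6
    have h7 := (ZMod.natCast_eq_natCast_iff' _ _ _).1 h6
    rw [← h7]
    have h8 : ∀ i < 8, ([1, 1, 0, 0, 0, 0, 1, 0] : List ℕ).getD i 0 % 9 = ([1, 1, 0, 0, 0, 0, 1, 0] : List ℕ).getD i 0 := by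
      decide
    exact h8 i hi
  · by_cases hj : j < 63
    · exact (hcY j hj).le
    · rw [cn_ge (by norm_num) (by omega)]
      exact Nat.zero_le _

theorem cntE_vecL {N : ℕ} [NeZero N] {v : Fin 8 → ZMod N} {Y : List ℕ} (hY : vecL N Y = v) {j : ℕ} (hj : j < N) :
    cntE v (j : ZMod N) = cn N j Y + if j = 0 then 8 else 0 := by
  unfold cntE
  rw [← hY, count_vecL Y hj]
  congr 1
  have h1 : ((j : ZMod N) = 0) ↔ j = 0 := by
    constructor
    · intro h
      have h2 := congrArg ZMod.val h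
      rw [ZMod.val_natCast, Nat.mod_eq_of_lt hj, ZMod.val_zero] at h2
      exact h2
    · rintro rfl
      exact Nat.cast_zero
  simp only [h1]

theorem ib_tot : ∀ s < 65, ((List.range 65).map fun c => ib s c).sum = 1 := by (refine of_decide_eq_true ?_; (try (rewrite [Cfsg.Agent.LsF.f62a1b5_5.2, Cfsg.Agent.LsF.instDecEq_eq, Cfsg.Agent.LsF.map_eq, Cfsg.Agent.LsF.range_eq, Cfsg.Agent.LsF.sum_eq, Cfsg.Agent.LsF.dBallLT_eq, Cfsg.Agent.LsF.decide_eq])); decide +kernel)

theorem cn_tot_aux {L : List ℕ} (hL : ∀ s < 65, (L.map fun c => ib s c).sum = 1) (Y : List ℕ) (R : List (List ℕ)) :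
    (L.map fun c => sumH (fun t => ib (t % 65) c + ib ((65 - t % 65) % 65) c) R Y).sum = 2 * R.length := by
  induction R with
  | nil => simp [sumH]
  | cons r R ih =>
    have h1 : (L.map fun c => sumH (fun t => ib (t % 65) c + ib ((65 - t % 65) % 65) c) (r :: R) Y) =
        L.map fun c => (ib (dotN r Y % 65) c + ib ((65 - dotN r Y % 65) % 65) c) +
          sumH (fun t => ib (t % 65) c + ib ((65 - t % 65) % 65) c) R Y := rfl
    rw [h1, List.sum_map_add, List.sum_map_add, hL _ (Nat.mod_lt _ (by norm_num)), hL _ (Nat.mod_lt _ (by norm_num)),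
      ih, List.length_cons]
    ring

theorem len120 : R8.length = 120 := by decide +kernel

theorem cn_tot (Y : List ℕ) : ((List.range 65).map fun c => cn 65 c Y).sum = 240 := by
  have h1 := cn_tot_aux ib_tot Y R8
  rw [len120] at h1
  exact h1

theorem sum_range_list (n : ℕ) (f : ℕ → ℕ) : ∑ b ∈ Finset.range n, f b = ((List.range n).map f).sum := by
  induction n with
  | zero => rfl
  | succ n ih => rw [Finset.sum_range_succ, ih, List.range_succ, List.map_append, List.sum_append]; simp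

theorem eqs_of {m g h : ℕ → ℕ} (h65 : ∀ j : ℕ, j < 65 → g j = ∑ b ∈ Finset.range 64, m b * w65 b j)
    (h9 : ∀ a < 9, h a = ∑ b ∈ Finset.range 64, m b * ((List.range 7).map fun i => w63 b (a + 9 * i)).sum) :
    ∀ j < 10, (([0, 1, 3, 5, 7, 11, 13].map g) ++ [h 0, h 1, h 3]).getD j 0 = ∑ b ∈ Finset.range 64, m b * fs j b := by
  intro j hj
  interval_cases j
  · exact h65 0 (by norm_num)
  · exact h65 1 (by norm_num)
  · exact h65 3 (by norm_num)
  · exact h65 5 (by norm_num)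
  · exact h65 7 (by norm_num)
  · exact h65 11 (by norm_num)
  · exact h65 13 (by norm_num)
  · exact h9 0 (by norm_num)
  · exact h9 1 (by norm_num)
  · exact h9 3 (by norm_num)

theorem w0 : ((List.range 65).map fun j => w65 0 j).sum = 1 := by decide +kernel

theorem colv1 : col (fun b => w65 b 1) = [1, 0, 0, 0, 1, 1, 0, 0, 0, 0, 1, 0, 1, 1] := by decide +kernel
theorem colv3 : col (fun b => w65 b 3) = [3, 0, 1, 1, 1, 1, 0, 0, 0, 0, 1, 1, 1, 0] := by decide +kernel
theorem colv7 : col (fun b => w65 b 7) = [3, 0, 1, 0, 2, 1, 0, 1, 2, 1, 1, 0, 0, 0] := by (refine of_decide_eq_true ?_; (try (rewrite [Cfsg.Agent.LsF.f62a1b5_17.2, Cfsg.Agent.LsF.f62a1b5_19.2, Cfsg.Agent.LsF.instDecEq_eq, Cfsg.Agent.LsF.dListEq_eq, Cfsg.Agent.LsF.decide_eq])); decide +kernel)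
theorem colv11 : col (fun b => w65 b 11) = [5, 0, 4, 1, 1, 1, 1, 2, 1, 0, 0, 0, 0, 0] := by (refine of_decide_eq_true ?_; (try (rewrite [Cfsg.Agent.LsF.f62a1b5_17.2, Cfsg.Agent.LsF.f62a1b5_19.2, Cfsg.Agent.LsF.instDecEq_eq, Cfsg.Agent.LsF.dListEq_eq, Cfsg.Agent.LsF.decide_eq])); decide +kernel)

private noncomputable def _root_.Cfsg.Agent.LsF.f62a1b5_26 : {f // @Cfsg.Agent.H939.L64.orb = f} := ⟨_, by first | (delta Cfsg.Agent.H939.L64.orb; rewrite [Cfsg.Agent.LsF.nmul_pat, Cfsg.Agent.LsF.nmod_pat, Cfsg.Agent.LsF.npow_pat, Cfsg.Agent.LsF.nmin_pat, Cfsg.Agent.LsF.foldl_eq, Cfsg.Agent.LsF.range_eq]; exact rfl) | exact rfl⟩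
private noncomputable def _root_.Cfsg.Agent.LsF.f62a1b5_27 : {f // @Cfsg.Agent.H939.L64.pat = f} := ⟨_, by first | (delta Cfsg.Agent.H939.L64.pat; rewrite [Cfsg.Agent.LsF.f62a1b5_26.2, Cfsg.Agent.LsF.instDecEq_eq, Cfsg.Agent.LsF.getD_eq, Cfsg.Agent.LsF.ite_eq]; (try delta Cfsg.Agent.H939.L64.pat.match_1); (try rewrite [Cfsg.Agent.LsF.instDecEq_eq, Cfsg.Agent.LsF.dite_eq]); exact rfl) | exact rfl⟩
theorem patw : ∀ j < 63, ((List.range 64).map fun b => pat 4 b * w63 b j).sum = dg cap63 j + if j = 0 then 8 else 0 := by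
  have h : ∀ b j, pat 4 b * w63 b j = Nat.rec 0 (fun n _ => Nat.mul (Nat.succ n) (w63 b j)) (pat 4 b) := fun b j => by
    cases pat 4 b with
    | zero => exact Nat.zero_mul _
    | succ n => rfl
  simp only [h]
  (refine of_decide_eq_true ?_; (try (rewrite [Cfsg.Agent.LsF.f62a1b5_20.2, Cfsg.Agent.LsF.f62a1b5_27.2, Cfsg.Agent.LsF.f62a1b5_11.2, Cfsg.Agent.LsF.nadd_pat, Cfsg.Agent.LsF.instDecEq_eq, Cfsg.Agent.LsF.map_eq, Cfsg.Agent.LsF.range_eq, Cfsg.Agent.LsF.sum_eq, Cfsg.Agent.LsF.dBallLT_eq, Cfsg.Agent.LsF.ite_eq, Cfsg.Agent.LsF.decide_eq])); decide +kernel)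

/-- the elements whose order is not 65 -/
theorem degenerate {m : ℕ → ℕ} {v : Fin 8 → ZMod 65} (hm : ∀ b < 63, m (2 * b % 63) = m b)
    (h65 : ∀ j : ℕ, j < 65 → cntE v (j : ZMod 65) = ∑ b ∈ Finset.range 64, m b * w65 b j)
    (hv : ∀ j ∈ [1, 3, 7, 11], (ms chevE8 8 v).count ((j : ℕ) : ZMod 65) = 0) : m 0 = 248 := by
  have h1 : ∀ j ∈ [1, 3, 7, 11], dotN (xs m) (col fun b => w65 b j) = 0 := by
    intro j hj
    have hj1 : j < 65 ∧ ((j : ℕ) : ZMod 65) ≠ 0 := by
      simp only [List.mem_cons, List.not_mem_nil, or_false] at hj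
      rcases hj with rfl | rfl | rfl | rfl <;> exact ⟨by norm_num, by decide⟩
    have h2 := h65 j hj1.1
    rw [sum_eq m (fun b => w65 b j) hm] at h2
    rw [← h2, cntE, hv j hj, if_neg hj1.2]
  have a1 := h1 1 (by simp)
  have a3 := h1 3 (by simp)
  have a7 := h1 7 (by simp)
  have a11 := h1 11 (by simp)
  rw [colv1] at a1
  rw [colv3] at a3
  rw [colv7] at a7
  rw [colv11] at a11
  simp only [xs, dotN, _root_.mul_one, _root_.MulZeroClass.mul_zero, _root_.add_zero, _root_.zero_add, _root_.Nat.add_eq_zero_iff, _root_.mul_eq_zero, _root_.OfNat.ofNat_ne_zero, _root_.or_false] at a1 a3 a7 a11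
  have hz : xs m = [0, m 0, 0, 0, 0, 0, 0, 0, 0, 0, 0, 0, 0, 0] := by
    unfold xs
    simp only [a1, a3, a7, a11]
  have hz' : ∀ b < 64, b ≠ 0 → m b = 0 := by
    intro b hb hb0
    rw [m_eq m hm b hb, hz]
    have h3 : ∀ b < 64, b ≠ 0 → ([0, 14, 0, 0, 0, 0, 0, 0, 0, 0, 0, 0, 0, 0] : List ℕ).getD (posL.getD b 0) 0 = 0 ∧
        posL.getD b 0 ≠ 1 := by decide +kernel
    obtain ⟨h4, h5⟩ := h3 b hb hb0
    generalize posL.getD b 0 = q at h4 h5
    rcases q with _ | _ | _ | _ | _ | _ | _ | _ | _ | _ | _ | _ | _ | _ | q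
    · rfl
    · exact absurd rfl h5
    all_goals rfl
  obtain ⟨Y, -, hY2, -⟩ := exists_list v
  have h6 : ∀ j < 65, cn 65 j Y + (if j = 0 then 8 else 0) = m 0 * w65 0 j := by
    intro j hj
    rw [← cntE_vecL hY2 hj, h65 j hj, Finset.sum_eq_single 0]
    · intro b hb hb0
      rw [hz' b (Finset.mem_range.1 hb) hb0, zero_mul]
    · intro h
      exact absurd (Finset.mem_range.2 (by norm_num)) h
  have h7 : ((List.range 65).map fun j => cn 65 j Y + (if j = 0 then 8 else 0)) = (List.range 65).map fun j => m 0 * w65 0 j :=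
    List.map_congr_left fun j hj => h6 j (List.mem_range.1 hj)
  have h8 := congrArg List.sum h7
  rw [List.sum_map_add, cn_tot, List.sum_map_mul_left, w0, mul_one] at h8
  rw [← h8]
  decide

/-- **K3** (modulo K1) -/
theorem K3core {m : ℕ → ℕ} {v : Fin 8 → ZMod 65} {v' : Fin 8 → ZMod 63}
    (hv : (∀ i, 5 * v i = 0) ∨ (∀ i, 13 * v i = 0) ∨ ∃ u : (ZMod 65)ˣ,
      ms chevE8 8 v = ms chevE8 8 (fun i => (u : ZMod 65) * Y1 i) ∨
      ms chevE8 8 v = ms chevE8 8 (fun i => (u : ZMod 65) * Y5 i))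
    (h2' : (ms chevE8 8 v').map (fun a => 2 * a) = ms chevE8 8 v')
    (hm : ∀ b < 63, m (2 * b % 63) = m b)
    (h65 : ∀ j : ℕ, j < 65 → cntE v (j : ZMod 65) = ∑ b ∈ Finset.range 64, m b * w65 b j)
    (h63 : ∀ j : ℕ, j < 63 → cntE v' (j : ZMod 63) = ∑ b ∈ Finset.range 64, m b * w63 b j) (h0 : m 0 ≠ 248) :
    ∃ p, (p = 1 ∨ p = 2 ∨ p = 3) ∧ ∀ b < 64, m b = pat p b := by
  -- the vector of order 65
  have hdeg : ∀ c : ZMod 65, c * 1 ≠ 0 → c * 3 ≠ 0 → c * 7 ≠ 0 → c * 11 ≠ 0 → ¬ ∀ i, c * v i = 0 := by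
    intro c c1 c3 c7 c11 hcv
    apply h0
    refine degenerate hm h65 fun j hj => ?_
    rw [Multiset.count_eq_zero]
    intro hmem
    rw [ms_eq, Multiset.mem_map] at hmem
    obtain ⟨s, -, hs⟩ := hmem
    have h1 : c * rv chevE8 8 v s = 0 := by
      unfold rv
      rw [Finset.mul_sum]
      refine Finset.sum_eq_zero fun i _ => ?_
      rw [mul_left_comm, hcv i, mul_zero]
    rw [hs] at h1
    simp only [List.mem_cons, List.not_mem_nil, or_false] at hj
    rcases hj with rfl | rfl | rfl | rfl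
    · exact c1 (by simpa using h1)
    · exact c3 h1
    · exact c7 h1
    · exact c11 h1
  rcases hv with hv | hv | ⟨u, hu⟩
  · exact absurd hv (hdeg 5 (by decide) (by decide) (by decide) (by decide))
  · exact absurd hv (hdeg 13 (by decide) (by decide) (by decide) (by decide))
  have ha := col65_mem hu
  obtain ⟨Y, -, hY2, -⟩ := exists_list v'
  have hq : ms chevE8 8 v' = (ms chevE8 8 v').map (fun a => ((2 : ℕ) : ZMod 63) * a) := h2'.symm
  let f : ZMod 63 →+* ZMod 9 := ZMod.castHom (by norm_num) (ZMod 9)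
  have hY9 : vecL 9 Y = fun i => f (v' i) := by
    funext i
    rw [← hY2]
    unfold vecL
    exact (map_natCast f _).symm
  have hb : [cn 9 0 Y + 8, cn 9 1 Y, cn 9 3 Y] ∈ L9 := by
    refine col9_mem Y ?_
    have h1 := inv_map f hq
    rw [hY9]
    exact h1
  -- bounds
  have hle : ∀ b < 64, m b ≤ 248 := by
    intro b hb
    have h1 : m b * w65 b b ≤ cntE v (b : ZMod 65) := by
      rw [h65 b (by omega)]
      exact Finset.single_le_sum (f := fun c => m c * w65 c b) (fun _ _ => Nat.zero_le _) (Finset.mem_range.2 hb)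
    have h2 : cntE v (b : ZMod 65) ≤ 248 := by
      unfold cntE
      have h3 : (ms chevE8 8 v).count (b : ZMod 65) ≤ 240 := by
        rw [← card_ms v]
        exact Multiset.count_le_card _ _
      split_ifs <;> omega
    have h3 := wpos b hb
    nlinarith only [h1, h2, h3]
  -- order 9
  have h9 : ∀ a < 9, cn 9 a Y + (if a = 0 then 8 else 0) =
      ∑ b ∈ Finset.range 64, m b * ((List.range 7).map fun i => w63 b (a + 9 * i)).sum := by
    intro a ha
    have h1 : ∀ i < 7, cn 63 (a + 9 * i) Y + (if a + 9 * i = 0 then 8 else 0) =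
        ∑ b ∈ Finset.range 64, m b * w63 b (a + 9 * i) := by
      intro i hi
      rw [← cntE_vecL hY2 (by omega), h63 _ (by omega)]
    rw [← cn_fold Y ha]
    have h2 : ((List.range 7).map fun i => cn 63 (a + 9 * i) Y).sum + (if a = 0 then 8 else 0) =
        ((List.range 7).map fun i => cn 63 (a + 9 * i) Y + (if a + 9 * i = 0 then 8 else 0)).sum := by
      rw [List.sum_map_add]
      have h8 : ∀ a < 9, (if a = 0 then 8 else 0) = ((List.range 7).map fun i => if a + 9 * i = 0 then 8 else 0).sum := by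
        decide
      rw [h8 a ha]
    have h3 : ((List.range 7).map fun i => cn 63 (a + 9 * i) Y + (if a + 9 * i = 0 then 8 else 0)) =
        (List.range 7).map fun i => ∑ b ∈ Finset.range 64, m b * w63 b (a + 9 * i) :=
      List.map_congr_left fun i hi => h1 i (List.mem_range.1 hi)
    rw [h2, h3]
    simp only [← List.sum_map_mul_left]
    clear h1 h2 h3
    generalize List.range 7 = L
    induction L with
    | nil => simp
    | cons i L ih => simp only [List.map_cons, List.sum_cons, Finset.sum_add_distrib, ih]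
  have hb' : [cn 9 0 Y + (if 0 = 0 then 8 else 0), cn 9 1 Y + (if 1 = 0 then 8 else 0),
      cn 9 3 Y + (if 3 = 0 then 8 else 0)] ∈ L9 := by
    rw [if_pos rfl, if_neg (by norm_num : ¬ (1 : ℕ) = 0), if_neg (by norm_num : ¬ (3 : ℕ) = 0), add_zero, add_zero]
    exact hb
  obtain ⟨p, hp, hpat⟩ := arith hm ha hb' hle
    (eqs_of (g := fun j => cntE v ((j : ℕ) : ZMod 65)) (h := fun a => cn 9 a Y + if a = 0 then 8 else 0) h65 h9)
  rcases hp with rfl | rfl | rfl | rfl
  · exact ⟨1, by simp, hpat⟩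
  · exact ⟨2, by simp, hpat⟩
  · exact ⟨3, by simp, hpat⟩
  · exfalso
    refine no63 h2' fun j hj => ?_
    have h1 := h63 j hj
    rw [cntE_vecL hY2 hj] at h1
    have h2 : ∑ b ∈ Finset.range 64, m b * w63 b j = ((List.range 64).map fun b => pat 4 b * w63 b j).sum := by
      rw [← sum_range_list]
      exact Finset.sum_congr rfl fun b hb => by rw [hpat b (Finset.mem_range.1 hb)]
    rw [h2, patw j hj] at h1
    rw [← hY2, count_vecL Y hj]
    omega

/-- the statement K1 -/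
def K1St : Prop := ∀ (P : (Fin 8 → ZMod 65) → Prop) (_ : ∀ v j, P v → P (srefl chevE8 8 j v)) {v : Fin 8 → ZMod 65}
    (_ : P v) (_ : (ms chevE8 8 v).map (fun a => 2 * a) = ms chevE8 8 v) (_ : ∃ i, 5 * v i ≠ 0)
    (_ : ∃ i, 13 * v i ≠ 0), ∃ u : (ZMod 65)ˣ, P (fun i => u * Y1 i) ∨ P (fun i => u * Y5 i)

/-- **K3** from K1 -/
theorem K3_of (hK : K1St) {m : ℕ → ℕ} {v : Fin 8 → ZMod 65} {v' : Fin 8 → ZMod 63}
    (h2 : (ms chevE8 8 v).map (fun a => 2 * a) = ms chevE8 8 v)
    (h2' : (ms chevE8 8 v').map (fun a => 2 * a) = ms chevE8 8 v')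
    (hm : ∀ b < 63, m (2 * b % 63) = m b)
    (h65 : ∀ j : ℕ, j < 65 → cntE v (j : ZMod 65) = ∑ b ∈ Finset.range 64, m b * w65 b j)
    (h63 : ∀ j : ℕ, j < 63 → cntE v' (j : ZMod 63) = ∑ b ∈ Finset.range 64, m b * w63 b j) (h0 : m 0 ≠ 248) :
    ∃ p, (p = 1 ∨ p = 2 ∨ p = 3) ∧ ∀ b < 64, m b = pat p b := by
  refine K3core ?_ h2' hm h65 h63 h0
  by_cases h5 : ∃ i, 5 * v i ≠ 0
  · by_cases h13 : ∃ i, 13 * v i ≠ 0
    · right
      right
      obtain ⟨u, hu⟩ := hK (fun w => ms chevE8 8 v = ms chevE8 8 w) (fun w j hw => by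
        show ms chevE8 8 v = ms chevE8 8 (srefl chevE8 8 j w)
        rw [ms_srefl e8T]
        exact hw) rfl h2 h5 h13
      exact ⟨u, hu⟩
    · right
      left
      push Not at h13
      exact h13
  · left
    push Not at h5
    exact h5

end Cfsg.Agent.H259.L64
end

private theorem dce_fe0d060f280b : _root_.True := by
  try have : _root_.True := by simp only [_root_.Cfsg.Agent.H939.L64.cntE.eq_1]
  try have : _root_.True := by simp only [_root_.Cfsg.Agent.H259.L64.xs.eq_1]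
  try have : _root_.True := by simp only [_root_.Cfsg.Agent.H259.L64.srch.eq_1]
  try have : _root_.True := by simp only [_root_.Cfsg.Agent.H259.L64.ps.eq_1]
  try have : _root_.True := by simp only [_root_.Cfsg.Agent.H259.L64.allSol.eq_def]
  try have : _root_.True := by simp only [_root_.Cfsg.Agent.H259.L64.stp.eq_2]
  try have : _root_.True := by simp only [_root_.Cfsg.Agent.H259.L64.cn.eq_1]
  try have : _root_.True := by simp only [_root_.Cfsg.Agent.H259.L64.tr.eq_1]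
  try have : _root_.True := by simp only [_root_.Cfsg.Agent.H259.L64.col.eq_1]
  try have : _root_.True := by simp only [_root_.Cfsg.Agent.H259.L64.srch.eq_def]
  try have : _root_.True := by simp only [_root_.Cfsg.Agent.H259.L64.stp.eq_1]
  try have : _root_.True := by simp only [_root_.Cfsg.Agent.H259.L64.srch.eq_2]
  try have : _root_.True := by simp only [_root_.Cfsg.Agent.H259.L64.orbs.eq_1]
  try have : _root_.True := by simp only [_root_.Cfsg.Agent.H259.L64.PL.eq_1]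
  try have : _root_.True := by simp only [_root_.Cfsg.Agent.H259.L64.allSol.eq_1]
  try have : _root_.True := by simp only [_root_.Cfsg.Agent.H259.L64.stp.eq_def]
  try have : _root_.True := by simp only [_root_.Cfsg.Agent.H259.L64.allSol.eq_2]
  exact _root_.True.intro
end

-- part: H179/SLC/Iface
section
prune_inst 0x10000000000000000000180602000000000300000800040000800a0000400600240010001000000008300040000000000000000000000400000000000080100020000000000000000000000000000000020000000000000000000000000000000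
set_option linter.all false
open scoped Cfsg.Agent.FastGrp

-- part: H179/SLC/HK
section
/-!
# `H¹(SL₂(q), V_b)`, `q` even: the linear relations (helper179)

`ZT` : the cocycles which vanish on the torus; they are determined by the value at `u 1`, whose coefficients satisfy linear
relations (`relK`).
-/

set_option autoImplicit false
set_option linter.unusedSectionVars false

namespace Cfsg.Agent.H179.SLC

open Matrix Cfsg.Agent.H943.SL2Rel Cfsg.Agent.H943.RepAdd Cfsg.Agent.H943.SL2Mod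

section General

variable {k : Type*} [Field k] {F : Type*} [Field F] [Fintype F] {V : Type*} [AddCommGroup V] [Module k V]
  (ρ : Representation k (_root_.Matrix.SpecialLinearGroup (Fin 2) F) V)

/-- the cocycles which vanish on the torus -/
def ZT : Submodule k (Z1 ρ) where
  carrier := {c | ∀ a : Fˣ, c.1 (h a) = 0}
  zero_mem' := fun a => rfl
  add_mem' := fun {x y} hx hy a => by
    show x.1 (h a) + y.1 (h a) = 0
    rw [hx, hy, add_zero]
  smul_mem' := fun c x hx a => by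
    show c • x.1 (h a) = 0
    rw [hx, smul_zero]

theorem exists_ZT (hN : ((Fintype.card F - 1 : ℕ) : k) ≠ 0) (c : Z1 ρ) : ∃ v : V, c - cob ρ v ∈ ZT ρ := by
  have h1 : (fun a : Fˣ => c.1 (h a)) ∈ Z1 (ρ.comp hHom) := by
    intro a b
    show c.1 (h (a * b)) = c.1 (h a) + ρ (h a) (c.1 (h b))
    rw [h_mul, c.2]
  obtain ⟨v, hv⟩ := cob_of_res (ρ.comp hHom) (⊥ : Subgroup Fˣ) (by
    classical
    rw [Subgroup.index_bot, Nat.card_eq_fintype_card, Fintype.card_units]
    exact hN) h1 (by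
    intro a ha
    rw [Subgroup.mem_bot] at ha
    show c.1 (h a) = 0
    rw [ha, h_one]
    exact Z1_one ρ c)
  refine ⟨v, fun a => ?_⟩
  show c.1 (h a) - (ρ (h a) v - v) = 0
  exact sub_eq_zero.2 (hv a)

theorem finrank_Z1_ZT [FiniteDimensional k V] (hN : ((Fintype.card F - 1 : ℕ) : k) ≠ 0) :
    Module.finrank k (Z1 ρ) ≤ Module.finrank k V + Module.finrank k (ZT ρ) := by
  classical
  have : Finite (_root_.Matrix.SpecialLinearGroup (Fin 2) F) := inferInstance
  have h1 : LinearMap.range (cob ρ) ⊔ ZT ρ = ⊤ := by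
    rw [eq_top_iff]
    intro c _
    obtain ⟨v, hv⟩ := exists_ZT ρ hN c
    have h2 : c = cob ρ v + (c - cob ρ v) := by abel
    rw [h2]
    exact Submodule.add_mem_sup ⟨v, rfl⟩ hv
  have h2 := Submodule.finrank_add_le_finrank_add_finrank (LinearMap.range (cob ρ)) (ZT ρ)
  rw [h1, finrank_top] at h2
  have h3 := LinearMap.finrank_range_le (cob ρ)
  omega

theorem ZT_u {c : Z1 ρ} (hc : c ∈ ZT ρ) (a : Fˣ) (t : F) : c.1 (u ((a : F) ^ 2 * t)) = ρ (h a) (c.1 (u t)) := by
  have h1 := c.2 (h a) (u t)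
  have h2 := c.2 (u ((a : F) ^ 2 * t)) (h a)
  rw [← h_u, h1, hc a, map_zero, add_zero, zero_add] at h2
  exact h2.symm

theorem ZT_w {c : Z1 ρ} (hc : c ∈ ZT ρ) (a : Fˣ) : ρ (h a) (c.1 w) = c.1 w := by
  have h1 := c.2 (h a) w
  have h2 := c.2 w (h a⁻¹)
  rw [← h_w, h1, hc a, hc a⁻¹, map_zero, add_zero, zero_add] at h2
  exact h2

variable [CharP F 2]

theorem ZT_eq_zero (hT : ∀ v : V, (∀ a : Fˣ, ρ (h a) v = v) → v = 0) {c : Z1 ρ} (hc : c ∈ ZT ρ)
    (h1 : c.1 (u 1) = 0) : c = 0 := by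
  have hu : ∀ t : F, c.1 (u t) = 0 := by
    intro t
    by_cases ht : t = 0
    · rw [ht, u_zero]
      exact Z1_one ρ c
    · obtain ⟨a, ha⟩ := FiniteField.isSquare_of_char_two (F := F) (ringChar.eq_iff.2 inferInstance) t
      have ha0 : a ≠ 0 := by
        rintro rfl
        exact ht (by rw [ha, mul_zero])
      have h2 := ZT_u ρ hc (Units.mk0 a ha0) 1
      rw [h1, map_zero, Units.val_mk0, mul_one, sq, ← ha] at h2
      exact h2
  apply Subtype.ext
  funext g
  show c.1 g = 0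
  refine induct (P := fun g => c.1 g = 0) hu hc (hT _ (ZT_w ρ hc)) ?_ g
  intro a b ha hb
  show c.1 (a * b) = 0
  rw [c.2, ha, hb, map_zero, add_zero]

end General

/-- half of the weight -/
def ex (N b m : ℕ) : ℕ := (m + (N - 1) / 2 * b) % N

section Vb

variable {k : Type*} [Field k] [CharP k 2] [DecidableEq k] {F : Type*} [Field F] [Fintype F] [DecidableEq F] [CharP F 2]
  (ι : F →+* k)

theorem odd_card : ¬ 2 ∣ Fintype.card F - 1 := by
  intro h
  obtain ⟨n, -, hn⟩ := FiniteField.card F 2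
  have h1 : 2 ∣ Fintype.card F := by
    rw [hn]
    exact dvd_pow_self 2 n.2.ne'
  have h2 : 0 < Fintype.card F := Fintype.card_pos
  omega

theorem pow_ex (a : Fˣ) {b m : ℕ} (hm : m ≤ b) :
    ι a ^ m * (ι a)⁻¹ ^ (b - m) = ι ((a : F) ^ 2) ^ ex (Fintype.card F - 1) b m := by
  have hodd := odd_card (F := F)
  have hq : 1 < Fintype.card F := Fintype.one_lt_card
  generalize hN : Fintype.card F - 1 = N at hodd
  have ha : (a : F) ≠ 0 := a.ne_zero
  have hι0 : ι a ≠ 0 := (map_ne_zero ι).2 ha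
  have hpN : ι a ^ N = 1 := by
    rw [← map_pow, ← hN, FiniteField.pow_card_sub_one_eq_one _ ha, map_one]
  have hmod : ∀ x : ℕ, ι a ^ x = ι a ^ (x % N) := by
    intro x
    conv_lhs => rw [← Nat.div_add_mod x N, pow_add, pow_mul, hpN, one_pow, one_mul]
  have h1 : ι ((a : F) ^ 2) ^ ex N b m = ι a ^ (2 * ex N b m) := by rw [map_pow, pow_mul]
  have h2 : (2 * ex N b m) % N = (2 * m + (N - 1) * b) % N := by
    unfold ex
    have h3 : 2 * m + (N - 1) * b = 2 * (m + (N - 1) / 2 * b) := by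
      have h4 : N - 1 = 2 * ((N - 1) / 2) := by omega
      rw [mul_add, ← mul_assoc, ← h4]
    rw [h3, Nat.mul_mod, Nat.mod_mod, ← Nat.mul_mod]
  rw [h1, hmod (2 * ex N b m), h2, ← hmod, pow_add, pow_mul _ (N - 1)]
  have h5 : ι a ^ (N - 1) = (ι a)⁻¹ := by
    apply eq_inv_of_mul_eq_one_left
    rw [← pow_succ, Nat.sub_add_cancel (by omega), hpN]
  rw [h5]
  obtain ⟨j, rfl⟩ := Nat.exists_eq_add_of_le hm
  rw [Nat.add_sub_cancel_left, pow_add (ι a)⁻¹ m j, mul_comm 2 m, pow_mul, sq, ← mul_assoc]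
  congr 1
  rw [mul_assoc, ← mul_pow, mul_inv_cancel₀ hι0, one_pow, mul_one]

theorem ex_ne_zero {b m : ℕ} (hb0 : 0 < b) (hb : b < Fintype.card F - 1) (hm : m ∈ Bb k b) :
    ex (Fintype.card F - 1) b m ≠ 0 := by
  have hodd := odd_card (F := F)
  have hq : 1 < Fintype.card F := Fintype.one_lt_card
  generalize Fintype.card F - 1 = N at *
  intro h0
  have h1 : N ∣ m + (N - 1) / 2 * b := Nat.dvd_of_mod_eq_zero h0
  have h4 : N - 1 = 2 * ((N - 1) / 2) := by omega
  have h2 : (N : ℤ) ∣ 2 * m - b := by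
    obtain ⟨c, hc⟩ := h1
    refine ⟨2 * c - b, ?_⟩
    have h5 : (2 : ℤ) * ((N - 1) / 2 : ℕ) = N - 1 := by (clear * - hodd; omega)
    have h6 : (m : ℤ) + ((N - 1) / 2 : ℕ) * b = N * c := by exact_mod_cast hc
    linear_combination 2 * h6 - b * h5
  have h3 : (2 * m : ℤ) - b = 0 := by
    apply Int.eq_zero_of_abs_lt_dvd h2
    have := hm.1
    rw [abs_lt]
    constructor <;> (clear * - hb this; omega)
  have h5 : b = 2 * m := by omega
  apply hm.2
  rw [h5, ← Nat.centralBinom_eq_two_mul_choose, CharP.cast_eq_zero_iff k 2]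
  exact Nat.two_dvd_centralBinom_of_one_le (by omega)

theorem u1_mon {b m : ℕ} (hm : m ≤ b) (y : F) : mon ι b m (1, 1 + y) =
    ∑ m' ∈ Finset.range (b + 1), ((b - m).choose (b - m') : k) * mon ι b m' (1, y) := by
  have h1 : ∀ m', mon ι b m' (1, y) = ι y ^ (b - m') := by
    intro m'
    unfold mon
    rw [map_one, one_pow, one_mul]
  have h2 : mon ι b m (1, 1 + y) = (ι y + 1) ^ (b - m) := by
    unfold mon
    rw [map_one, one_pow, one_mul, map_add, map_one, add_comm]
  rw [h2, ← Finset.sum_range_reflect, add_pow]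
  have h3 : ∀ j ∈ Finset.range (b + 1), ((b - m).choose (b - (b + 1 - 1 - j)) : k) * mon ι b (b + 1 - 1 - j) (1, y) =
      ι y ^ j * 1 ^ (b - m - j) * ((b - m).choose j : k) := by
    intro j hj
    have hj' := Finset.mem_range.1 hj
    rw [h1, show b - (b + 1 - 1 - j) = j by omega, one_pow, mul_one, mul_comm]
  rw [Finset.sum_congr rfl h3]
  refine Finset.sum_subset (Finset.range_subset_range.2 (by omega)) fun j _ hj => ?_
  rw [Nat.choose_eq_zero_of_lt (by
    rw [Finset.mem_range] at hj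
    omega), Nat.cast_zero, mul_zero]

/-- **the linear relations** -/
theorem relK (hι : Function.Injective ι) (hs1 : (-1 : k) ^ (Fintype.card F - 1) = 1) {b : ℕ} (hb0 : 0 < b)
    (hb : b < Fintype.card F - 1) {c : Z1 (rb ι 2 hs1 hb.le)} (hc : c ∈ ZT (rb ι 2 hs1 hb.le)) :
    ∃ γ : ℕ → k, (c.1 (u 1) : F × F → k) = ∑ m ∈ Finset.range (b + 1), γ m • mon ι b m ∧
      (∀ m, (b.choose m : k) = 0 → γ m = 0) ∧
      ∀ m' ≤ b, ∀ j, j < Fintype.card F - 1 → γ m' * ((ex (Fintype.card F - 1) b m').choose j : k) =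
        (if j = 0 then γ m' else 0) +
        ∑ m ∈ Finset.range (b + 1), if ex (Fintype.card F - 1) b m = j then γ m * ((b - m).choose (b - m') : k) else 0 := by
  have hq : 1 < Fintype.card F := Fintype.one_lt_card
  set N := Fintype.card F - 1 with hN
  have hN0 : 0 < N := by omega
  have hexN : ∀ m, ex N b m < N := fun m => Nat.mod_lt _ hN0
  obtain ⟨e, he⟩ := exists_coord ι 2 hι hs1 hb.le
  obtain ⟨x, hx⟩ := e.surjective (c.1 (u 1))
  let γ : ℕ → k := fun m => if hm : m ∈ Bf k b then x ⟨m, hm⟩ else 0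
  have hγ0 : ∀ m, (b.choose m : k) = 0 → γ m = 0 := by
    intro m hm
    apply dif_neg
    intro h
    exact (mem_Bf.1 h).2 hm
  have hγm : ∀ m, γ m ≠ 0 → m ∈ Bb k b := by
    intro m hm
    by_contra hcon
    exact hm (dif_neg fun h => hcon (mem_Bf.1 h))
  have hsum : (c.1 (u 1) : F × F → k) = ∑ m ∈ Finset.range (b + 1), γ m • mon ι b m := by
    have h3 : ∀ m : Bf k b, x m • mon ι b m = γ m • mon ι b m := by
      intro m
      have h5 : γ m = x m := dif_pos m.2
      rw [h5]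
    rw [← hx, he, Finset.sum_congr rfl fun m _ => h3 m, Finset.sum_coe_sort (Bf k b) (fun m => γ m • mon ι b m)]
    refine Finset.sum_subset (Finset.filter_subset (fun m => (b.choose m : k) ≠ 0) (Finset.range (b + 1))) fun m _ hm => ?_
    have h4 : γ m = 0 := dif_neg hm
    rw [h4, zero_smul]
  -- the value at `u s`
  have hval : ∀ s : F, (c.1 (u s) : F × F → k) = ∑ m ∈ Finset.range (b + 1), (γ m * ι s ^ ex N b m) • mon ι b m := by
    intro s
    by_cases hs : s = 0
    · rw [hs, u_zero, Z1_one _ c]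
      show (0 : F × F → k) = _
      symm
      apply Finset.sum_eq_zero
      intro m _
      by_cases h0 : γ m = 0
      · rw [h0, zero_mul, zero_smul]
      · rw [map_zero, zero_pow (ex_ne_zero (k := k) hb0 hb (hγm m h0)), mul_zero, zero_smul]
    · obtain ⟨a, ha⟩ := FiniteField.isSquare_of_char_two (F := F) (ringChar.eq_iff.2 inferInstance) s
      have ha0 : a ≠ 0 := by
        rintro rfl
        exact hs (by rw [ha, mul_zero])
      have h2 := ZT_u _ hc (Units.mk0 a ha0) 1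
      rw [Units.val_mk0, mul_one, sq, ← ha] at h2
      rw [h2]
      show fRep k F (h (Units.mk0 a ha0)) (c.1 (u 1) : F × F → k) = _
      rw [hsum, map_sum]
      refine Finset.sum_congr rfl fun m hm => ?_
      rw [map_smul, h_mon, smul_smul, pow_ex ι _ (Nat.lt_succ_iff.1 (Finset.mem_range.1 hm)), Units.val_mk0, sq, ← ha]
  -- the cocycle relation
  have hcoc : ∀ t y : F, ∑ m ∈ Finset.range (b + 1), (γ m * ι (1 + t) ^ ex N b m) * mon ι b m (1, y) =
      ∑ m ∈ Finset.range (b + 1), γ m * mon ι b m (1, y) +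
      ∑ m ∈ Finset.range (b + 1), (γ m * ι t ^ ex N b m) * mon ι b m (1, 1 + y) := by
    intro t y
    have h1 := c.2 (u 1) (u t)
    rw [← u_add] at h1
    have h2 := congrFun (congrArg Subtype.val h1) ((1 : F), y)
    have h3 : (c.1 (u (1 + t)) : F × F → k) (1, y) = (c.1 (u 1) : F × F → k) (1, y) +
        (fRep k F (u 1) (c.1 (u t) : F × F → k)) (1, y) := h2
    rw [fRep_u, hval, hval t, hsum, Finset.sum_apply, Finset.sum_apply, Finset.sum_apply, mul_one] at h3
    exact h3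
  refine ⟨γ, hsum, hγ0, fun m' hm' => ?_⟩
  -- the coefficients
  have hco : ∀ t : F, γ m' * ι (1 + t) ^ ex N b m' = γ m' +
      ∑ m ∈ Finset.range (b + 1), γ m * ι t ^ ex N b m * ((b - m).choose (b - m') : k) := by
    intro t
    have h1 := mon_indep ι hι (b := b) (by omega) (fun m' => γ m' * ι (1 + t) ^ ex N b m' - (γ m' +
      ∑ m ∈ Finset.range (b + 1), γ m * ι t ^ ex N b m * ((b - m).choose (b - m') : k))) (by
      intro y
      have h2 : ∀ m ∈ Finset.range (b + 1), (γ m * ι t ^ ex N b m) * mon ι b m (1, 1 + y) =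
          ∑ m' ∈ Finset.range (b + 1), γ m * ι t ^ ex N b m * ((b - m).choose (b - m') : k) * mon ι b m' (1, y) := by
        intro m hm
        rw [u1_mon ι (Nat.lt_succ_iff.1 (Finset.mem_range.1 hm)), Finset.mul_sum]
        exact Finset.sum_congr rfl fun _ _ => (mul_assoc _ _ _).symm
      have h3 := hcoc t y
      rw [Finset.sum_congr rfl h2, Finset.sum_comm] at h3
      have h4 : ∀ m ∈ Finset.range (b + 1), (γ m * ι (1 + t) ^ ex N b m - (γ m +
          ∑ m_1 ∈ Finset.range (b + 1), γ m_1 * ι t ^ ex N b m_1 * ((b - m_1).choose (b - m) : k))) * mon ι b m (1, y) =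
          (γ m * ι (1 + t) ^ ex N b m) * mon ι b m (1, y) - (γ m * mon ι b m (1, y) +
          ∑ m_1 ∈ Finset.range (b + 1), γ m_1 * ι t ^ ex N b m_1 * ((b - m_1).choose (b - m) : k) * mon ι b m (1, y)) := by
        intro m _
        rw [sub_mul, add_mul, Finset.sum_mul]
      rw [Finset.sum_congr rfl h4, Finset.sum_sub_distrib, Finset.sum_add_distrib, h3, sub_self]) m' hm'
    exact sub_eq_zero.1 h1
  intro j hj
  have h1 := coeff_zero ι hι (n := N - 1) (by omega) (fun j => γ m' * ((ex N b m').choose j : k) -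
      ((if j = 0 then γ m' else 0) +
        ∑ m ∈ Finset.range (b + 1), if ex N b m = j then γ m * ((b - m).choose (b - m') : k) else 0)) (by
    intro t
    rw [Nat.sub_add_cancel hN0]
    have h2 : ∑ j ∈ Finset.range N, γ m' * ((ex N b m').choose j : k) * ι t ^ j = γ m' * ι (1 + t) ^ ex N b m' := by
      rw [map_add, map_one, add_comm (1 : k), add_pow, Finset.mul_sum]
      symm
      refine (Finset.sum_subset (Finset.range_subset_range.2 (Nat.succ_le_of_lt (hexN m'))) fun j _ hj => ?_).trans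
        (Finset.sum_congr rfl fun j _ => ?_)
      · rw [Nat.choose_eq_zero_of_lt (by
          rw [Finset.mem_range] at hj
          omega), Nat.cast_zero, mul_zero, mul_zero]
      · rw [one_pow, mul_one]
        ring
    have h3 : ∑ j ∈ Finset.range N, (if j = 0 then γ m' else 0) * ι t ^ j = γ m' := by
      rw [Finset.sum_eq_single 0]
      · rw [if_pos rfl, pow_zero, mul_one]
      · intro j _ hj
        rw [if_neg hj, zero_mul]
      · intro h
        exact absurd (Finset.mem_range.2 hN0) h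
    have h4 : ∑ j ∈ Finset.range N, (∑ m ∈ Finset.range (b + 1), if ex N b m = j then
        γ m * ((b - m).choose (b - m') : k) else 0) * ι t ^ j =
        ∑ m ∈ Finset.range (b + 1), γ m * ι t ^ ex N b m * ((b - m).choose (b - m') : k) := by
      rw [Finset.sum_congr rfl fun j _ => Finset.sum_mul _ _ _, Finset.sum_comm]
      refine Finset.sum_congr rfl fun m _ => ?_
      rw [Finset.sum_eq_single (ex N b m)]
      · rw [if_pos rfl]
        ring
      · intro j _ hj
        rw [if_neg (Ne.symm hj), zero_mul]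
      · intro h
        exact absurd (Finset.mem_range.2 (hexN m)) h
    have h5 : ∀ j ∈ Finset.range N, (γ m' * ((ex N b m').choose j : k) - ((if j = 0 then γ m' else 0) +
        ∑ m ∈ Finset.range (b + 1), if ex N b m = j then γ m * ((b - m).choose (b - m') : k) else 0)) * ι t ^ j =
        γ m' * ((ex N b m').choose j : k) * ι t ^ j - ((if j = 0 then γ m' else 0) * ι t ^ j +
        (∑ m ∈ Finset.range (b + 1), if ex N b m = j then γ m * ((b - m).choose (b - m') : k) else 0) * ι t ^ j) := by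
      intro j _
      rw [sub_mul, add_mul]
    rw [Finset.sum_congr rfl h5, Finset.sum_sub_distrib, Finset.sum_add_distrib, h2, h3, h4, hco t, sub_self])
    j (by omega)
  exact sub_eq_zero.1 h1

end Vb

end Cfsg.Agent.H179.SLC
end

-- part: H179/SLC/HOne
section
/-!
# `H¹(SL₂(64), V_b)` (helper179)

`finrank_Z1_rb` : `dim Z¹(SL₂(64), V_b) ≤ dim V_b + δ`, `δ = 1` if `b` is a power of 2 and `δ = 0` otherwise (`0 < b < 63`).
-/

set_option autoImplicit false
set_option linter.unusedSectionVars false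

namespace Cfsg.Agent.H179.SLC

open Matrix Cfsg.Agent.H943.SL2Rel Cfsg.Agent.H943.RepAdd Cfsg.Agent.H943.SL2Mod

/-- parity of the binomial coefficients -/
def oc : ℕ → ℕ → ℕ → Bool
  | 0, _, _ => true
  | n + 1, b, m => Nat.ble (m % 2) (b % 2) && oc n (b / 2) (m / 2)

theorem oc_spec {k : Type*} [Field k] [CharP k 2] (n : ℕ) : ∀ b m : ℕ, b < 2 ^ n → m < 2 ^ n →
    ((b.choose m : ℕ) : k) = if oc n b m then 1 else 0 := by
  induction n with
  | zero =>
    intro b m hb hm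
    have h1 : b = 0 := by omega
    have h2 : m = 0 := by omega
    subst h1 h2
    simp [oc]
  | succ n ih =>
    intro b m hb hm
    have hb' : b / 2 < 2 ^ n := by omega
    have hm' : m / 2 < 2 ^ n := by omega
    rw [lucas2, Nat.cast_mul, ih _ _ hb' hm']
    have h3 : oc (n + 1) b m = (Nat.ble (m % 2) (b % 2) && oc n (b / 2) (m / 2)) := rfl
    rw [h3]
    rcases Nat.mod_two_eq_zero_or_one b with h1 | h1 <;> rcases Nat.mod_two_eq_zero_or_one m with h2 | h2 <;>
      simp [h1, h2]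

/-- the coefficient of `γ x` in the relation `(m', j)` -/
def cf (b m' j x : ℕ) : Bool :=
  (decide (x = m') && oc 6 (ex 63 b m') j) ^^ (decide (ex 63 b x = j) && oc 6 (b - x) (b - m'))

/-- the check of a certificate; `ex0` : the exponent which is not eliminated -/
def chk (b ex0 : ℕ) : List (ℕ × ℕ × ℕ) → List ℕ → Bool
  | [], Z => (List.range (b + 1)).all fun x => x == ex0 || !oc 6 b x || Z.contains x
  | (m', j, x) :: l, Z => Nat.ble m' b && Nat.ble 1 j && Nat.ble j 62 && Nat.ble x b && cf b m' j x &&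
      ((List.range (b + 1)).all fun y => y == x || !cf b m' j y || !oc 6 b y || Z.contains y) && chk b ex0 l (x :: Z)

section Sound

variable {k : Type*} [Field k] [CharP k 2]

/-- the relations -/
def Rel (b : ℕ) (γ : ℕ → k) : Prop := (∀ m, (b.choose m : k) = 0 → γ m = 0) ∧
  ∀ m' ≤ b, ∀ j, j < 63 → γ m' * ((ex 63 b m').choose j : k) = (if j = 0 then γ m' else 0) +
    ∑ m ∈ Finset.range (b + 1), if ex 63 b m = j then γ m * ((b - m).choose (b - m') : k) else 0

theorem bool_aux (A B : Prop) [Decidable A] [Decidable B] (P Q : Bool) (g : k) :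
    (if ((decide A && P) ^^ (decide B && Q)) = true then g else 0) =
      (if A then g * (if P = true then 1 else 0) else 0) - (if B then g * (if Q = true then 1 else 0) else 0) := by
  have hneg : ∀ a : k, -a = a := fun a => CharTwo.neg_eq a
  by_cases hA : A <;> by_cases hB : B <;> cases P <;> cases Q <;> simp [hA, hB, hneg]

theorem Rel.sum_cf {b : ℕ} (hb : b < 63) {γ : ℕ → k} (h : Rel b γ) {m' j : ℕ} (hm' : m' ≤ b) (hj1 : 1 ≤ j) (hj : j < 63) :
    ∑ x ∈ Finset.range (b + 1), (if cf b m' j x then γ x else 0) = 0 := by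
  have h1 := h.2 m' hm' j hj
  rw [if_neg (by omega), zero_add] at h1
  have h2 : γ m' * ((ex 63 b m').choose j : k) =
      ∑ x ∈ Finset.range (b + 1), if x = m' then γ x * ((ex 63 b m').choose j : k) else 0 := by
    rw [Finset.sum_ite_eq' , if_pos (Finset.mem_range.2 (by omega))]
  rw [h2] at h1
  have hex : ex 63 b m' < 64 := by
    have : ex 63 b m' < 63 := Nat.mod_lt _ (by norm_num)
    omega
  have h3 : ∀ x ∈ Finset.range (b + 1), (if cf b m' j x then γ x else 0) =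
      (if x = m' then γ x * ((ex 63 b m').choose j : k) else 0) -
      (if ex 63 b x = j then γ x * ((b - x).choose (b - m') : k) else 0) := by
    intro x hx
    have hx' := Finset.mem_range.1 hx
    have e1 := oc_spec (k := k) 6 (ex 63 b m') j (by norm_num; omega) (by norm_num; omega)
    have e2 := oc_spec (k := k) 6 (b - x) (b - m') (by norm_num; omega) (by norm_num; omega)
    rw [e1, e2]
    unfold cf
    exact bool_aux _ _ _ _ _
  rw [Finset.sum_congr rfl h3, Finset.sum_sub_distrib, h1, sub_self]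

theorem chk_sound {b ex0 : ℕ} (hb : b < 63) {γ : ℕ → k} (h : Rel b γ) (l : List (ℕ × ℕ × ℕ)) :
    ∀ Z : List ℕ, (∀ x ∈ Z, γ x = 0) → chk b ex0 l Z = true → ∀ x ≤ b, x ≠ ex0 → γ x = 0 := by
  have hoc : ∀ y ≤ b, oc 6 b y = false → γ y = 0 := by
    intro y hy h0
    apply h.1
    rw [oc_spec 6 b y (by norm_num; omega) (by norm_num; omega), h0]
    simp
  induction l with
  | nil =>
    intro Z hZ hc x hx hne
    unfold chk at hc
    rw [List.all_eq_true] at hc
    have h1 := hc x (List.mem_range.2 (by omega))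
    simp only [Bool.or_eq_true, beq_iff_eq, Bool.not_eq_true', List.contains_iff_mem] at h1
    rcases h1 with (h1 | h1) | h1
    · exact absurd h1 hne
    · exact hoc x hx h1
    · exact hZ x h1
  | cons s l ih =>
    obtain ⟨m', j, x⟩ := s
    intro Z hZ hc
    unfold chk at hc
    simp only [Bool.and_eq_true, Nat.ble_eq] at hc
    obtain ⟨⟨⟨⟨⟨⟨hm', hj1⟩, hj⟩, hx⟩, hcf⟩, hall⟩, hrest⟩ := hc
    refine ih (x :: Z) ?_ hrest
    intro y hy
    rcases List.mem_cons.1 hy with rfl | hy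
    · have h1 := h.sum_cf hb hm' hj1 (by omega)
      rw [Finset.sum_eq_single y] at h1
      · rwa [if_pos hcf] at h1
      · intro z hz hzy
        by_cases hcz : cf b m' j z = true
        · rw [if_pos hcz]
          have hz' := Finset.mem_range.1 hz
          have h2 := List.all_eq_true.1 hall z (List.mem_range.2 hz')
          simp only [Bool.or_eq_true, beq_iff_eq, Bool.not_eq_true', List.contains_iff_mem] at h2
          rcases h2 with ((h2 | h2) | h2) | h2
          · exact absurd h2 hzy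
          · rw [hcz] at h2
            exact absurd h2 (by decide)
          · exact hoc z (by omega) h2
          · exact hZ z h2
        · rw [if_neg hcz]
      · intro h0
        exact absurd (Finset.mem_range.2 (by omega)) h0
    · exact hZ y hy

end Sound

def certs : List (ℕ × List (ℕ × ℕ × ℕ)) := [
  (1, [(0, 1, 0)]),
  (2, [(0, 2, 0)]),
  (3, [(0, 2, 0), (1, 1, 1), (3, 1, 3), (3, 32, 2)]),
  (4, [(0, 1, 0)]),
  (5, [(0, 1, 0), (1, 2, 1), (4, 1, 4), (5, 2, 5)]),
  (6, [(0, 4, 0), (2, 2, 2), (6, 2, 6), (6, 1, 4)]),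
  (7, [(0, 4, 0), (1, 1, 1), (2, 2, 2), (3, 1, 3), (5, 1, 5), (5, 32, 4), (6, 2, 6), (7, 1, 7)]),
  (8, [(0, 1, 0)]),
  (9, [(0, 1, 0), (1, 4, 1), (8, 1, 8), (9, 4, 9)]),
  (10, [(0, 2, 0), (2, 4, 2), (8, 1, 8), (10, 1, 10)]),
  (11, [(0, 2, 0), (1, 1, 1), (2, 4, 2), (3, 1, 3), (8, 2, 8), (9, 1, 9), (10, 4, 10), (11, 1, 11)]),
  (12, [(0, 1, 0), (4, 1, 4), (12, 4, 12), (12, 2, 8)]),
  (13, [(0, 1, 0), (1, 2, 1), (4, 1, 4), (5, 2, 5), (8, 1, 8), (9, 2, 9), (12, 1, 12), (13, 2, 13)]),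
  (14, [(0, 8, 0), (2, 2, 2), (4, 4, 4), (6, 2, 6), (10, 2, 10), (12, 4, 12), (14, 2, 14), (10, 1, 8)]),
  (15, [(0, 8, 0), (1, 1, 1), (2, 2, 2), (3, 1, 3), (4, 4, 4), (5, 1, 5), (6, 2, 6), (7, 1, 7), (9, 1, 9), (9, 32, 8), (10, 2, 10), (11, 1, 11), (12, 4, 12), (13, 1, 13), (14, 2, 14), (15, 1, 15)]),
  (16, [(0, 1, 0)]),
  (17, [(0, 1, 0), (1, 8, 1), (16, 1, 16), (17, 8, 17)]),
  (18, [(0, 2, 0), (2, 8, 2), (16, 1, 16), (18, 1, 18)]),
  (19, [(0, 2, 0), (1, 1, 1), (2, 8, 2), (3, 1, 3), (16, 2, 16), (17, 1, 17), (18, 8, 18), (19, 1, 19)]),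
  (20, [(0, 1, 0), (4, 1, 4), (16, 2, 16), (20, 2, 20)]),
  (21, [(0, 1, 0), (1, 2, 1), (4, 1, 4), (5, 2, 5), (16, 1, 16), (17, 2, 17), (20, 1, 20), (21, 2, 21)]),
  (22, [(0, 4, 0), (2, 2, 2), (4, 8, 4), (6, 2, 6), (16, 1, 16), (18, 1, 18), (20, 1, 20), (22, 1, 22)]),
  (23, [(0, 4, 0), (1, 1, 1), (2, 2, 2), (3, 1, 3), (4, 8, 4), (5, 1, 5), (6, 2, 6), (7, 1, 7), (16, 4, 16), (17, 1, 17), (18, 2, 18), (19, 1, 19), (20, 8, 20), (21, 1, 21), (22, 2, 22), (23, 1, 23)]),
  (24, [(0, 1, 0), (8, 1, 8), (24, 8, 24), (24, 4, 16)]),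
  (25, [(0, 1, 0), (1, 4, 1), (8, 1, 8), (9, 4, 9), (16, 1, 16), (17, 4, 17), (24, 1, 24), (25, 4, 25)]),
  (26, [(0, 2, 0), (2, 4, 2), (8, 2, 8), (10, 4, 10), (16, 1, 16), (18, 1, 18), (24, 1, 24), (26, 1, 26)]),
  (27, [(0, 2, 0), (1, 1, 1), (2, 4, 2), (3, 1, 3), (8, 2, 8), (9, 1, 9), (10, 4, 10), (11, 1, 11), (16, 2, 16), (17, 1, 17), (18, 4, 18), (19, 1, 19), (24, 2, 24), (25, 1, 25), (26, 4, 26), (27, 1, 27)]),
  (28, [(0, 1, 0), (4, 1, 4), (8, 1, 8), (12, 1, 12), (20, 4, 20), (24, 8, 24), (28, 4, 28), (20, 2, 16)]),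
  (29, [(0, 1, 0), (1, 2, 1), (4, 1, 4), (5, 2, 5), (8, 1, 8), (9, 2, 9), (12, 1, 12), (13, 2, 13), (16, 1, 16), (17, 2, 17), (20, 1, 20), (21, 2, 21), (24, 1, 24), (25, 2, 25), (28, 1, 28), (29, 2, 29)]),
  (30, [(0, 16, 0), (2, 2, 2), (4, 4, 4), (6, 2, 6), (8, 8, 8), (10, 2, 10), (12, 4, 12), (14, 2, 14), (18, 2, 18), (20, 4, 20), (22, 2, 22), (24, 8, 24), (26, 2, 26), (28, 4, 28), (30, 2, 30), (18, 1, 16)]),
  (31, [(1, 1, 1), (1, 16, 0), (2, 2, 2), (3, 1, 3), (4, 4, 4), (5, 1, 5), (6, 2, 6), (7, 1, 7), (8, 8, 8), (9, 1, 9), (10, 2, 10), (11, 1, 11), (12, 4, 12), (13, 1, 13), (14, 2, 14), (15, 1, 15), (17, 1, 17), (17, 32, 16), (18, 2, 18), (19, 1, 19), (20, 4, 20), (21, 1, 21), (22, 2, 22), (23, 1, 23), (24, 8, 24), (25, 1, 25), (26, 2, 26), (27, 1, 27), (28, 4, 28), (29, 1, 29), (30, 2, 30), (31, 1, 31)]),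
  (32, [(0, 1, 0)]),
  (33, [(0, 1, 0), (32, 1, 32), (33, 32, 33), (33, 16, 1)]),
  (34, [(0, 2, 0), (2, 16, 2), (32, 1, 32), (34, 1, 34)]),
  (35, [(0, 2, 0), (1, 1, 1), (3, 1, 3), (3, 16, 2), (32, 2, 32), (33, 1, 33), (34, 16, 34), (35, 1, 35)]),
  (36, [(0, 1, 0), (4, 1, 4), (32, 2, 32), (36, 2, 36)]),
  (37, [(0, 1, 0), (1, 2, 1), (4, 1, 4), (5, 2, 5), (32, 1, 32), (33, 2, 33), (36, 1, 36), (37, 2, 37)]),
  (38, [(0, 4, 0), (2, 2, 2), (4, 16, 4), (6, 2, 6), (32, 1, 32), (34, 1, 34), (36, 1, 36), (38, 1, 38)]),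
  (39, [(0, 4, 0), (1, 1, 1), (2, 2, 2), (3, 1, 3), (5, 1, 5), (5, 16, 4), (6, 2, 6), (7, 1, 7), (32, 4, 32), (33, 1, 33), (34, 2, 34), (35, 1, 35), (36, 16, 36), (37, 1, 37), (38, 2, 38), (39, 1, 39)]),
  (40, [(0, 1, 0), (8, 1, 8), (32, 4, 32), (40, 4, 40)]),
  (41, [(0, 1, 0), (1, 4, 1), (8, 1, 8), (9, 4, 9), (32, 1, 32), (33, 4, 33), (40, 1, 40), (41, 4, 41)]),
  (42, [(0, 2, 0), (2, 4, 2), (8, 2, 8), (10, 4, 10), (32, 1, 32), (34, 1, 34), (40, 1, 40), (42, 1, 42)]),
  (43, [(0, 2, 0), (1, 1, 1), (2, 4, 2), (3, 1, 3), (8, 2, 8), (9, 1, 9), (10, 4, 10), (11, 1, 11), (32, 2, 32), (33, 1, 33), (34, 4, 34), (35, 1, 35), (40, 2, 40), (41, 1, 41), (42, 4, 42), (43, 1, 43)]),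
  (44, [(0, 1, 0), (4, 1, 4), (8, 1, 8), (12, 1, 12), (32, 2, 32), (36, 2, 36), (40, 2, 40), (44, 2, 44)]),
  (45, [(0, 1, 0), (1, 2, 1), (4, 1, 4), (5, 2, 5), (8, 1, 8), (9, 2, 9), (12, 1, 12), (13, 2, 13), (32, 1, 32), (33, 2, 33), (36, 1, 36), (37, 2, 37), (40, 1, 40), (41, 2, 41), (44, 1, 44), (45, 2, 45)]),
  (46, [(0, 8, 0), (2, 2, 2), (4, 4, 4), (6, 2, 6), (8, 16, 8), (10, 2, 10), (12, 4, 12), (14, 2, 14), (32, 1, 32), (34, 1, 34), (36, 1, 36), (38, 1, 38), (40, 1, 40), (42, 1, 42), (44, 1, 44), (46, 1, 46)]),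
  (47, [(1, 1, 1), (1, 8, 0), (2, 2, 2), (3, 1, 3), (4, 4, 4), (5, 1, 5), (6, 2, 6), (7, 1, 7), (9, 1, 9), (9, 16, 8), (10, 2, 10), (11, 1, 11), (12, 4, 12), (13, 1, 13), (14, 2, 14), (15, 1, 15), (32, 8, 32), (33, 1, 33), (34, 2, 34), (35, 1, 35), (36, 4, 36), (37, 1, 37), (38, 2, 38), (39, 1, 39), (40, 16, 40), (41, 1, 41), (42, 2, 42), (43, 1, 43), (44, 4, 44), (45, 1, 45), (46, 2, 46), (47, 1, 47)]),
  (48, [(0, 1, 0), (16, 1, 16), (48, 16, 48), (48, 8, 32)]),
  (49, [(0, 1, 0), (16, 1, 16), (17, 16, 17), (32, 1, 32), (33, 32, 33), (48, 1, 48), (49, 16, 49), (17, 8, 1)]),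
  (50, [(0, 2, 0), (2, 8, 2), (16, 2, 16), (18, 8, 18), (32, 1, 32), (34, 1, 34), (48, 1, 48), (50, 1, 50)]),
  (51, [(0, 2, 0), (1, 1, 1), (3, 1, 3), (3, 8, 2), (16, 2, 16), (17, 1, 17), (18, 8, 18), (19, 1, 19), (32, 2, 32), (33, 1, 33), (34, 8, 34), (35, 1, 35), (48, 2, 48), (49, 1, 49), (50, 8, 50), (51, 1, 51)]),
  (52, [(0, 1, 0), (4, 1, 4), (16, 1, 16), (20, 1, 20), (32, 2, 32), (36, 2, 36), (48, 2, 48), (52, 2, 52)]),
  (53, [(0, 1, 0), (1, 2, 1), (4, 1, 4), (5, 2, 5), (16, 1, 16), (17, 2, 17), (20, 1, 20), (21, 2, 21), (32, 1, 32), (33, 2, 33), (36, 1, 36), (37, 2, 37), (48, 1, 48), (49, 2, 49), (52, 1, 52), (53, 2, 53)]),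
  (54, [(0, 4, 0), (2, 2, 2), (4, 8, 4), (6, 2, 6), (16, 4, 16), (18, 2, 18), (20, 8, 20), (22, 2, 22), (32, 1, 32), (34, 1, 34), (36, 1, 36), (38, 1, 38), (48, 1, 48), (50, 1, 50), (52, 1, 52), (54, 1, 54)]),
  (55, [(1, 1, 1), (1, 4, 0), (2, 2, 2), (3, 1, 3), (5, 1, 5), (5, 8, 4), (6, 2, 6), (7, 1, 7), (16, 4, 16), (17, 1, 17), (18, 2, 18), (19, 1, 19), (20, 8, 20), (21, 1, 21), (22, 2, 22), (23, 1, 23), (32, 4, 32), (33, 1, 33), (34, 2, 34), (35, 1, 35), (36, 8, 36), (37, 1, 37), (38, 2, 38), (39, 1, 39), (48, 4, 48), (49, 1, 49), (50, 2, 50), (51, 1, 51), (52, 8, 52), (53, 1, 53), (54, 2, 54), (55, 1, 55)]),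
  (56, [(0, 1, 0), (8, 1, 8), (16, 1, 16), (24, 1, 24), (40, 8, 40), (48, 16, 48), (56, 8, 56), (40, 4, 32)]),
  (57, [(0, 1, 0), (8, 1, 8), (9, 8, 9), (16, 1, 16), (17, 16, 17), (24, 1, 24), (25, 8, 25), (32, 1, 32), (33, 32, 33), (40, 1, 40), (41, 8, 41), (48, 1, 48), (49, 16, 49), (56, 1, 56), (57, 8, 57), (9, 4, 1)]),
  (58, [(0, 2, 0), (2, 4, 2), (8, 2, 8), (10, 4, 10), (16, 2, 16), (18, 4, 18), (24, 2, 24), (26, 4, 26), (32, 1, 32), (34, 1, 34), (40, 1, 40), (42, 1, 42), (48, 1, 48), (50, 1, 50), (56, 1, 56), (58, 1, 58)]),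
  (59, [(1, 1, 1), (1, 2, 0), (3, 1, 3), (3, 4, 2), (8, 2, 8), (9, 1, 9), (10, 4, 10), (11, 1, 11), (16, 2, 16), (17, 1, 17), (18, 4, 18), (19, 1, 19), (24, 2, 24), (25, 1, 25), (26, 4, 26), (27, 1, 27), (32, 2, 32), (33, 1, 33), (34, 4, 34), (35, 1, 35), (40, 2, 40), (41, 1, 41), (42, 4, 42), (43, 1, 43), (48, 2, 48), (49, 1, 49), (50, 4, 50), (51, 1, 51), (56, 2, 56), (57, 1, 57), (58, 4, 58), (59, 1, 59)]),
  (60, [(0, 1, 0), (4, 1, 4), (8, 1, 8), (12, 1, 12), (16, 1, 16), (20, 1, 20), (24, 1, 24), (28, 1, 28), (36, 4, 36), (40, 8, 40), (44, 4, 44), (48, 16, 48), (52, 4, 52), (56, 8, 56), (60, 4, 60), (36, 2, 32)]),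
  (61, [(1, 1, 0), (4, 1, 4), (5, 4, 5), (8, 1, 8), (9, 8, 9), (12, 1, 12), (13, 4, 13), (16, 1, 16), (17, 16, 17), (20, 1, 20), (21, 4, 21), (24, 1, 24), (25, 8, 25), (28, 1, 28), (29, 4, 29), (32, 1, 32), (33, 32, 33), (36, 1, 36), (37, 4, 37), (40, 1, 40), (41, 8, 41), (44, 1, 44), (45, 4, 45), (48, 1, 48), (49, 16, 49), (52, 1, 52), (53, 4, 53), (56, 1, 56), (57, 8, 57), (60, 1, 60), (61, 4, 61), (5, 2, 1)]),
  (62, [(2, 2, 2), (2, 32, 0), (4, 4, 4), (6, 2, 6), (8, 8, 8), (10, 2, 10), (12, 4, 12), (14, 2, 14), (16, 16, 16), (18, 2, 18), (20, 4, 20), (22, 2, 22), (24, 8, 24), (26, 2, 26), (28, 4, 28), (30, 2, 30), (34, 2, 34), (36, 4, 36), (38, 2, 38), (40, 8, 40), (42, 2, 42), (44, 4, 44), (46, 2, 46), (48, 16, 48), (50, 2, 50), (52, 4, 52), (54, 2, 54), (56, 8, 56), (58, 2, 58), (60, 4, 60), (62, 2, 62), (34, 1, 32)])]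

/-- powers of 2 -/
def isP (b : ℕ) : Bool := [1, 2, 4, 8, 16, 32].contains b

private theorem _root_.Cfsg.Agent.KO3180642.e0.{ku, kv} {α : Type kv} {M : List α → Sort ku} (φ : ∀ l, M l) {z : M List.nil} {s : ∀ a l, M l → M (List.cons a l)} (h0 : φ List.nil = z) (hs : ∀ a l, φ (List.cons a l) = s a l (φ l)) (l : List α) : φ l = @List.rec α M z s l := List.rec h0 (fun a l ih => (hs a l).trans (congrArg (s a l) ih)) l
private noncomputable def _root_.Cfsg.Agent.KO3180642.k1.{ku0} : type_of% @List.all.{ku0} := @(fun x0 x1 x2 => @List.rec.{(ku0+1), ku0} @x0 @(fun x3 => (@x0 → @Bool) → @Bool) @(fun x3 => @Bool.true) @(fun x3 x4 x5 x6 => @Bool.rec.{1} @(fun x7 => @Bool) @Bool.false (@x5 @x6) (@x6 @x3)) @x1 @x2)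
private theorem _root_.Cfsg.Agent.KO3180642.e1.{ku0} : @List.all.{ku0} = @_root_.Cfsg.Agent.KO3180642.k1.{ku0} := by delta _root_.Cfsg.Agent.KO3180642.k1; funext a0 a1 a2; refine (congrFun (_root_.Cfsg.Agent.KO3180642.e0 (fun a1 a2 => @List.all.{ku0} a0 a1 a2) ?_ (fun c0 c1 => ?_) a1) a2 :) <;> (rfl')
private noncomputable def _root_.Cfsg.Agent.KO3180642.oEq.{ku} (α : Sort ku) (a b : Nat) (f t : α) : α := @Decidable.rec (a = b) (fun _ => α) (fun _ => f) (fun _ => t) (Nat.decEq a b)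
private noncomputable def _root_.Cfsg.Agent.KO3180642.k2.{ku} (α : Sort ku) (a b : Nat) (f t : α) : α := @Bool.rec (fun _ => α) f t (Nat.beq a b)
private theorem _root_.Cfsg.Agent.KO3180642.e2.{ku} : @_root_.Cfsg.Agent.KO3180642.oEq.{ku} = @_root_.Cfsg.Agent.KO3180642.k2.{ku} := funext fun α => funext fun a => funext fun b => funext fun f => funext fun t => by delta _root_.Cfsg.Agent.KO3180642.oEq _root_.Cfsg.Agent.KO3180642.k2; cases h : Nat.beq a b <;> cases Nat.decEq a b <;> rename_i g <;> first | rfl | exact absurd g (Nat.ne_of_beq_eq_false h) | exact absurd (Nat.eq_of_beq_eq_true h) g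
private theorem _root_.Cfsg.Agent.KO3180642.e3.{ku} {M : Nat → Sort ku} (φ : ∀ n, M n) {z : M Nat.zero} {s : ∀ n, M n → M (Nat.succ n)} (h0 : φ Nat.zero = z) (hs : ∀ n, φ (Nat.succ n) = s n (φ n)) (n : Nat) : φ n = @Nat.rec M z s n := Nat.rec h0 (fun n ih => (hs n).trans (congrArg (s n) ih)) n
private noncomputable def _root_.Cfsg.Agent.KO3180642.k4 : type_of% @List.range.loop := @(fun x0 x1 => @Nat.rec.{1} @(fun x2 => (@List.{0} ℕ) → @List.{0} ℕ) @(fun x2 => @x2) @(fun x2 x3 x4 => @x3 (@x2 :: @x4)) @x0 @x1)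
private theorem _root_.Cfsg.Agent.KO3180642.e4 : @List.range.loop = @_root_.Cfsg.Agent.KO3180642.k4 := by delta _root_.Cfsg.Agent.KO3180642.k4; funext a0 a1; refine (congrFun (_root_.Cfsg.Agent.KO3180642.e3 (fun a0 a1 => @List.range.loop a0 a1) ?_ (fun c0 => ?_) a0) a1 :) <;> (rfl')
private noncomputable def _root_.Cfsg.Agent.KO3180642.k5.{ku0} : type_of% @List.elem.{ku0} := @(fun x0 x1 x2 x3 => @List.rec.{1, ku0} @x0 @(fun x4 => @Bool) @Bool.false @(fun x4 x5 x6 => @Bool.rec.{1} @(fun x7 => @Bool) @x6 @Bool.true (@BEq.beq.{ku0} _ @x1 @x2 @x4)) @x3)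
private theorem _root_.Cfsg.Agent.KO3180642.e5.{ku0} : @List.elem.{ku0} = @_root_.Cfsg.Agent.KO3180642.k5.{ku0} := by delta _root_.Cfsg.Agent.KO3180642.k5; funext a0 a1 a2 a3; refine (_root_.Cfsg.Agent.KO3180642.e0 (fun a3 => @List.elem.{ku0} a0 a1 a2 a3) ?_ (fun c0 c1 => ?_) a3 :) <;> (rfl')
private noncomputable def _root_.Cfsg.Agent.KO3180642.k6 : (by first | exact type_of% @Cfsg.Agent.H179.SLC.oc | exact Unit : Sort _) := by first | (refine @Subtype.val _ (fun g => @Cfsg.Agent.H179.SLC.oc = @g) (@Subtype.mk _ _ (@(fun x0 x1 x2 => @Nat.rec.{1} @(fun x3 => ℕ → ℕ → @Bool) @(fun x3 x4 => @Bool.true) @(fun x3 x4 x5 x6 => @Bool.rec.{1} @(fun x7 => @Bool) @Bool.false (@x4 (@Nat.div @x5 (nat_lit 2)) (@Nat.div @x6 (nat_lit 2))) (@Nat.ble (@Nat.mod @x6 (nat_lit 2)) (@Nat.mod @x5 (nat_lit 2)))) @x0 @x1 @x2)) ?_); funext a0 a1 a2; refine (congrFun (congrFun (_root_.Cfsg.Agent.KO3180642.e3 (fun a0 a1 a2 => @Cfsg.Agent.H179.SLC.oc a0 a1 a2) ?_ (fun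 c0 => ?_) a0) a1) a2 :) <;> (rfl')) | exact @Cfsg.Agent.H179.SLC.oc | exact ()
private theorem _root_.Cfsg.Agent.KO3180642.e6 : (by first | exact @Cfsg.Agent.H179.SLC.oc = @_root_.Cfsg.Agent.KO3180642.k6 | exact True : Prop) := by first | (delta _root_.Cfsg.Agent.KO3180642.k6; exact @Subtype.property _ (fun g => @Cfsg.Agent.H179.SLC.oc = @g) _) | rfl | trivial
private noncomputable def _root_.Cfsg.Agent.KO3180642.k7 : type_of% @Bool.decEq := @(fun x0 x1 => @Bool.rec.{1} @(fun x2 => @Decidable (@Eq.{1} _ @x2 @x1)) (@Bool.rec.{1} @(fun x2 => @Decidable (@Eq.{1} _ @Bool.false @x2)) (@Decidable.isTrue _ (@rfl.{1} _ _)) (@Decidable.isFalse _ @(fun x2 => @Bool.noConfusion.{0} _ _ _ @x2)) @x1) (@Bool.rec.{1} @(fun x2 => @Decidable (@Eq.{1} _ @Bool.true @x2)) (@Decidable.isFalse _ @(fun x2 => @Bool.noConfusion.{0} _ _ _ @x2)) (@Decidable.isTrue _ (@rfl.{1} _ _)) @x1) @x0)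
private theorem _root_.Cfsg.Agent.KO3180642.e7 : @Bool.decEq = @_root_.Cfsg.Agent.KO3180642.k7 := by delta _root_.Cfsg.Agent.KO3180642.k7; rfl'
private noncomputable def _root_.Cfsg.Agent.KO3180642.k8 : (by first | exact type_of% @Cfsg.Agent.H179.SLC.ex | exact Unit : Sort _) := by first | (refine @Subtype.val _ (fun g => @Cfsg.Agent.H179.SLC.ex = @g) (@Subtype.mk _ _ (@(fun x0 x1 x2 => @Nat.mod (@Nat.add @x2 (@Nat.mul (@Nat.div (@Nat.sub @x0 (nat_lit 1)) (nat_lit 2)) @x1)) @x0)) ?_); rfl') | exact @Cfsg.Agent.H179.SLC.ex | exact ()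
private theorem _root_.Cfsg.Agent.KO3180642.e8 : (by first | exact @Cfsg.Agent.H179.SLC.ex = @_root_.Cfsg.Agent.KO3180642.k8 | exact True : Prop) := by first | (delta _root_.Cfsg.Agent.KO3180642.k8; exact @Subtype.property _ (fun g => @Cfsg.Agent.H179.SLC.ex = @g) _) | rfl | trivial
private noncomputable def _root_.Cfsg.Agent.KO3180642.k9 : (by first | exact type_of% @Cfsg.Agent.H179.SLC.cf | exact Unit : Sort _) := by first | (refine @Subtype.val _ (fun g => @Cfsg.Agent.H179.SLC.cf = @g) (@Subtype.mk _ _ (@(fun x0 x1 x2 x3 => @Bool.rec.{1} @(fun x4 => @Bool) @Bool.true @Bool.false (@Decidable.rec.{1} _ @(fun x4 => @Bool) @(fun x4 => @Bool.false) @(fun x4 => @Bool.true) (@Cfsg.Agent.KO3180642.k7 (@Bool.rec.{1} @(fun x4 => @Bool) @Bool.false (@Cfsg.Agent.KO3180642.k6 (nat_lit 6) (@Cfsg.Agent.KO3180642.k8 (nat_lit 63) @x0 @x1) @x2) (@Cfsg.Agent.KO3180642.oEq.{1} @Bool @x3 @x1 @Bool.false @Bool.true)) (@Bool.rec.{1} @(fun x4 => @Bool) @Bool.false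 (@Cfsg.Agent.KO3180642.k6 (nat_lit 6) (@Nat.sub @x0 @x3) (@Nat.sub @x0 @x1)) (@Cfsg.Agent.KO3180642.oEq.{1} @Bool (@Cfsg.Agent.KO3180642.k8 (nat_lit 63) @x0 @x3) @x2 @Bool.false @Bool.true)))))) ?_); rewrite [← Cfsg.Agent.KO3180642.e8, ← Cfsg.Agent.KO3180642.e6, ← Cfsg.Agent.KO3180642.e7]; (try delta Cfsg.Agent.H179.SLC.cf); (try generalize @Cfsg.Agent.H179.SLC.oc = g0); (try generalize @Cfsg.Agent.H179.SLC.ex = g1); rfl') | exact @Cfsg.Agent.H179.SLC.cf | exact ()
private theorem _root_.Cfsg.Agent.KO3180642.e9 : (by first | exact @Cfsg.Agent.H179.SLC.cf = @_root_.Cfsg.Agent.KO3180642.k9 | exact True : Prop) := by first | (delta _root_.Cfsg.Agent.KO3180642.k9; exact @Subtype.property _ (fun g => @Cfsg.Agent.H179.SLC.cf = @g) _) | rfl | trivial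
private noncomputable def _root_.Cfsg.Agent.KO3180642.k10 : (by first | exact type_of% @Cfsg.Agent.H179.SLC.chk | exact Unit : Sort _) := by first | (refine @Subtype.val _ (fun g => @Cfsg.Agent.H179.SLC.chk = @g) (@Subtype.mk _ _ (@(fun x0 x1 x2 x3 => @List.rec.{1, 0} (ℕ × (ℕ × ℕ)) @(fun x4 => (@List.{0} ℕ) → @Bool) @(fun x4 => @Cfsg.Agent.KO3180642.k1.{0} _ (@Cfsg.Agent.KO3180642.k4 (@Nat.add @x0 (nat_lit 1)) []) @(fun x5 => @Bool.rec.{1} @(fun x6 => @Bool) (@Cfsg.Agent.KO3180642.k5.{0} _ (@BEq.mk.{0} _ @(fun x6 x7 => @Cfsg.Agent.KO3180642.k2.{1} @Bool @x6 @x7 @Bool.false @Bool.true)) @x5 @x4) @Bool.true (@Bool.rec.{1} @(fun x6 => @Bool) (@Bool.rec.{1} @(fun x6 => @Bool) @Bool.true @Bool.false (@Cfsg.Agent.KO3180642.k6 (nat_lit 6) @x0 @x5)) @Bool.true (@Cfsg.Agent.KO3180642.k2.{1} @Bool @x5 @x1 @Bool.false @Bool.true)))) @(fun x4 x5 x6 x7 => @Prod.rec.{1, 0, 0} ℕ (ℕ × ℕ) @(fun x8 => @Bool) @(fun x8 x9 => @Prod.rec.{1, 0, 0} ℕ ℕ @(fun x10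 => @Bool) @(fun x10 x11 => @Bool.rec.{1} @(fun x12 => @Bool) @Bool.false (@x6 (@x11 :: @x7)) (@Bool.rec.{1} @(fun x12 => @Bool) @Bool.false (@Cfsg.Agent.KO3180642.k1.{0} _ (@Cfsg.Agent.KO3180642.k4 (@Nat.add @x0 (nat_lit 1)) []) @(fun x12 => @Bool.rec.{1} @(fun x13 => @Bool) (@Cfsg.Agent.KO3180642.k5.{0} _ (@BEq.mk.{0} _ @(fun x13 x14 => @Cfsg.Agent.KO3180642.k2.{1} @Bool @x13 @x14 @Bool.false @Bool.true)) @x12 @x7) @Bool.true (@Bool.rec.{1} @(fun x13 => @Bool) (@Bool.rec.{1} @(fun x13 => @Bool) @Bool.true @Bool.false (@Cfsg.Agent.KO3180642.k6 (nat_lit 6) @x0 @x12)) @Bool.true (@Bool.rec.{1} @(fun x13 => @Bool) (@Bool.rec.{1} @(fun x13 => @Bool) @Bool.true @Bool.false (@Cfsg.Agent.KO3180642.k9 @x0 @x8 @x10 @x12)) @Bool.true (@Cfsg.Agent.KO3180642.k2.{1} @Bool @x12 @x11 @Bool.false @Bool.true))))) (@Bool.rec.{1} @(fun x12 => @Bool) @Bool.false (@Cfsg.Agent.KO3180642.k9 @x0 @x8 @x10 @x11) (@Bool.rec.{1} @(fun x12 => @Bool) @Bool.false (@Nat.ble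 @x11 @x0) (@Bool.rec.{1} @(fun x12 => @Bool) @Bool.false (@Nat.ble @x10 (nat_lit 62)) (@Bool.rec.{1} @(fun x12 => @Bool) @Bool.false (@Nat.ble (nat_lit 1) @x10) (@Nat.ble @x8 @x0))))))) @x9) @x4) @x2 @x3)) ?_); rewrite [← Cfsg.Agent.KO3180642.e9, ← Cfsg.Agent.KO3180642.e6, ← Cfsg.Agent.KO3180642.e2.{1}, ← Cfsg.Agent.KO3180642.e5.{0}, ← Cfsg.Agent.KO3180642.e4, ← Cfsg.Agent.KO3180642.e1.{0}]; funext a0 a1 a2 a3; refine (congrFun (_root_.Cfsg.Agent.KO3180642.e0 (fun a2 a3 => @Cfsg.Agent.H179.SLC.chk a0 a1 a2 a3) ?_ (fun c0 c1 => ?_) a2) a3 :) <;> ((try delta Cfsg.Agent.H179.SLC.chk Cfsg.Agent.H179.SLC.chk._f); (try generalize @Cfsg.Agent.H179.SLC.oc = g0); (try generalize @Cfsg.Agent.H179.SLC.cf = g1); rfl')) | exact @Cfsg.Agent.H179.SLC.chk | exact ()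
private theorem _root_.Cfsg.Agent.KO3180642.e10 : (by first | exact @Cfsg.Agent.H179.SLC.chk = @_root_.Cfsg.Agent.KO3180642.k10 | exact True : Prop) := by first | (delta _root_.Cfsg.Agent.KO3180642.k10; exact @Subtype.property _ (fun g => @Cfsg.Agent.H179.SLC.chk = @g) _) | rfl | trivial
private noncomputable def _root_.Cfsg.Agent.KO3180642.k11.{ku0} : type_of% @ite.{ku0} := @(fun x0 x1 x2 x3 x4 => @Decidable.rec.{ku0} _ @(fun x5 => @x0) @(fun x5 => @x4) @(fun x5 => @x3) @x2)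
private theorem _root_.Cfsg.Agent.KO3180642.e11.{ku0} : @ite.{ku0} = @_root_.Cfsg.Agent.KO3180642.k11.{ku0} := by delta _root_.Cfsg.Agent.KO3180642.k11; rfl'
private noncomputable def _root_.Cfsg.Agent.KO3180642.k12 : type_of% @instDecidableEqBool := @Cfsg.Agent.KO3180642.k7
private theorem _root_.Cfsg.Agent.KO3180642.e12 : @instDecidableEqBool = @_root_.Cfsg.Agent.KO3180642.k12 := by delta _root_.Cfsg.Agent.KO3180642.k12; rewrite [← Cfsg.Agent.KO3180642.e7]; rfl'
private noncomputable def _root_.Cfsg.Agent.KO3180642.k13 : (by first | exact type_of% @Cfsg.Agent.H179.SLC.isP | exact Unit : Sort _) := by first | (refine @Subtype.val _ (fun g => @Cfsg.Agent.H179.SLC.isP = @g) (@Subtype.mk _ _ (@(fun x0 => @Cfsg.Agent.KO3180642.k5.{0} _ (@BEq.mk.{0} _ @(fun x1 x2 => @Cfsg.Agent.KO3180642.k2.{1} @Bool @x1 @x2 @Bool.false @Bool.true)) @x0 ((nat_lit 1) :: ((nat_lit 2) :: ((nat_lit 4) :: ((nat_lit 8) :: ((nat_lit 16) :: ((nat_lit 32) :: []))))))))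 ?_); rewrite [← Cfsg.Agent.KO3180642.e2.{1}, ← Cfsg.Agent.KO3180642.e5.{0}]; rfl') | exact @Cfsg.Agent.H179.SLC.isP | exact ()
private theorem _root_.Cfsg.Agent.KO3180642.e13 : (by first | exact @Cfsg.Agent.H179.SLC.isP = @_root_.Cfsg.Agent.KO3180642.k13 | exact True : Prop) := by first | (delta _root_.Cfsg.Agent.KO3180642.k13; exact @Subtype.property _ (fun g => @Cfsg.Agent.H179.SLC.isP = @g) _) | rfl | trivial

theorem certs_ok : certs.all (fun e => chk e.1 (if isP e.1 then e.1 else 64) e.2 []) = true := by (first | (rewrite [Cfsg.Agent.KO3180642.e1.{0}, Cfsg.Agent.KO3180642.e10, Cfsg.Agent.KO3180642.e11.{1}, Cfsg.Agent.KO3180642.e12, Cfsg.Agent.KO3180642.e13]; decide +kernel) | decide +kernel)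

theorem certs_all : (List.range 63).all (fun b => b == 0 || certs.any fun e => e.1 == b) = true := by decide +kernel

theorem rel_zero {k : Type*} [Field k] [CharP k 2] {b : ℕ} (hb0 : 0 < b) (hb : b < 63) {γ : ℕ → k} (h : Rel b γ) :
    ∀ x ≤ b, x ≠ (if isP b then b else 64) → γ x = 0 := by
  have h1 := List.all_eq_true.1 certs_all b (List.mem_range.2 hb)
  simp only [Bool.or_eq_true, beq_iff_eq, List.any_eq_true] at h1
  rcases h1 with h1 | ⟨e, he, h1⟩
  · omega
  · have h2 := List.all_eq_true.1 certs_ok e he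
    rw [h1] at h2
    exact chk_sound hb h e.2 [] (by simp) h2

end Cfsg.Agent.H179.SLC
end

-- part: H179/SLC/HBound
section
/-!
# The dimensions of `Z¹(SL₂(64), V_b)` (helper179)

`zb b` : `0` for `b = 0`; `dim V_b + 1` for `b` a power of 2; `dim V_b` otherwise. `finrank_Z1_rb : dim Z¹ ≤ zb b`.
-/

set_option autoImplicit false
set_option linter.unusedSectionVars false

namespace Cfsg.Agent.H179.SLC

open Matrix Cfsg.Agent.H943.SL2Rel Cfsg.Agent.H943.RepAdd Cfsg.Agent.H943.SL2Mod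

variable {k : Type*} [Field k] [CharP k 2] [DecidableEq k] {F : Type*} [Field F] [Fintype F] [DecidableEq F] [CharP F 2]
  (ι : F →+* k)

theorem cast_N : ((Fintype.card F - 1 : ℕ) : k) ≠ 0 := by
  rw [Ne, CharP.cast_eq_zero_iff k 2]
  exact odd_card

/-- the torus has no fixed vectors on `V_b` -/
theorem fixT (hι : Function.Injective ι) (hs1 : (-1 : k) ^ (Fintype.card F - 1) = 1) {b : ℕ} (hb0 : 0 < b)
    (hb : b < Fintype.card F - 1) (v : Vb ι b) (hv : ∀ a : Fˣ, rb ι 2 hs1 hb.le (h a) v = v) : v = 0 := by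
  obtain ⟨e, he⟩ := exists_coord ι 2 hι hs1 hb.le
  obtain ⟨x, rfl⟩ := e.surjective v
  have h1 : ∀ a : Fˣ, e (fun m => (ι a ^ (m : ℕ) * (ι a)⁻¹ ^ (b - m)) * x m) = e x := by
    intro a
    rw [← hv a]
    apply Subtype.ext
    rw [he]
    show _ = fRep k F (h a) ((e x : Vb ι b) : F × F → k)
    rw [he, map_sum]
    refine Finset.sum_congr rfl fun m _ => ?_
    rw [map_smul, h_mon, smul_smul, mul_comm]
  have hx : x = 0 := by
    funext m
    by_contra hm
    have hm' := mem_Bf.1 m.2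
    have h2 : ∀ s : Fˣ, s ^ ex (Fintype.card F - 1) b m = 1 := by
      intro s
      obtain ⟨a, ha⟩ := FiniteField.isSquare_of_char_two (F := F) (ringChar.eq_iff.2 inferInstance) (s : F)
      have ha0 : a ≠ 0 := by
        rintro rfl
        exact s.ne_zero (by rw [ha, mul_zero])
      have h3 := congrFun (e.injective (h1 (Units.mk0 a ha0))) m
      have h4 : ι (Units.mk0 a ha0) ^ (m : ℕ) * (ι (Units.mk0 a ha0))⁻¹ ^ (b - m) = 1 := mul_right_cancel₀ hm (by
        rw [one_mul]; exact h3)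
      rw [pow_ex ι _ hm'.1, Units.val_mk0, sq, ← ha, ← map_pow] at h4
      have h5 : (s : F) ^ ex (Fintype.card F - 1) b m = 1 := hι (by rw [h4, map_one])
      exact Units.ext (by rw [Units.val_pow_eq_pow_val, h5, Units.val_one])
    rw [FiniteField.forall_pow_eq_one_iff] at h2
    have hq : 1 < Fintype.card F := Fintype.one_lt_card
    have h3 : ex (Fintype.card F - 1) b m < Fintype.card F - 1 := Nat.mod_lt _ (by omega)
    exact ex_ne_zero (k := k) hb0 hb hm' (Nat.eq_zero_of_dvd_of_lt h2 h3)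
  rw [hx, map_zero]

section SixtyFour

variable (hq : Fintype.card F = 64)

include hq in
theorem finrank_ZT_le (hι : Function.Injective ι) (hs1 : (-1 : k) ^ (Fintype.card F - 1) = 1) {b : ℕ} (hb0 : 0 < b)
    (hb : b < Fintype.card F - 1) : Module.finrank k (ZT (rb ι 2 hs1 hb.le)) ≤ if isP b then 1 else 0 := by
  have hb' : b < 63 := by omega
  -- the values at `u 1`
  have hval : ∀ c ∈ ZT (rb ι 2 hs1 hb.le), ∃ γ : k, (isP b = false → γ = 0) ∧ (c.1 (u 1) : F × F → k) = γ • mon ι b b := by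
    intro c hc
    obtain ⟨γ, h1, h2, h3⟩ := relK ι hι hs1 hb0 hb hc
    rw [hq] at h3
    have hrel : Rel b γ := ⟨h2, h3⟩
    have h4 := rel_zero hb0 hb' hrel
    refine ⟨γ b, fun h0 => h4 b le_rfl (by rw [h0]; simp; omega), ?_⟩
    rw [h1, Finset.sum_eq_single b]
    · intro m hm hmb
      have hm' := Finset.mem_range.1 hm
      rw [h4 m (by omega) (by
        by_cases h5 : isP b = true
        · rw [if_pos h5]; exact hmb
        · rw [if_neg h5]; omega), zero_smul]
    · intro h0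
      exact absurd (Finset.mem_range.2 (by omega)) h0
  have hzero : ∀ c ∈ ZT (rb ι 2 hs1 hb.le), (c.1 (u 1) : F × F → k) = 0 → c = 0 := by
    intro c hc h0
    exact ZT_eq_zero _ (fixT ι hι hs1 hb0 hb) hc (Subtype.ext h0)
  by_cases hP : isP b = true
  · rw [if_pos hP]
    let f : ZT (rb ι 2 hs1 hb.le) →ₗ[k] (F × F → k) :=
      { toFun := fun c => (((c : Z1 (rb ι 2 hs1 hb.le)).1 (u 1) : Vb ι b) : F × F → k)
        map_add' := fun x y => rfl
        map_smul' := fun a x => rfl }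
    have hf : Function.Injective f := by
      intro x y hxy
      have h1 : ((x : Z1 (rb ι 2 hs1 hb.le)) - (y : Z1 (rb ι 2 hs1 hb.le))) ∈ ZT (rb ι 2 hs1 hb.le) := by
        intro a
        show (x : Z1 (rb ι 2 hs1 hb.le)).1 (h a) - (y : Z1 (rb ι 2 hs1 hb.le)).1 (h a) = 0
        rw [x.2 a, y.2 a, sub_self]
      have h2 := hzero _ h1 (by
        show (((x : Z1 (rb ι 2 hs1 hb.le)).1 (u 1) : Vb ι b) : F × F → k) -
          (((y : Z1 (rb ι 2 hs1 hb.le)).1 (u 1) : Vb ι b) : F × F → k) = 0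
        exact sub_eq_zero.2 hxy)
      exact Subtype.ext (sub_eq_zero.1 (h2 :))
    have h1 : LinearMap.range f ≤ Submodule.span k {mon ι b b} := by
      rintro _ ⟨c, rfl⟩
      obtain ⟨γ, -, h2⟩ := hval _ c.2
      show (((c : Z1 (rb ι 2 hs1 hb.le)).1 (u 1) : Vb ι b) : F × F → k) ∈ _
      rw [h2]
      exact Submodule.smul_mem _ _ (Submodule.mem_span_singleton_self _)
    rw [← LinearMap.finrank_range_of_inj hf]
    refine (Submodule.finrank_mono h1).trans ?_
    exact (finrank_span_le_card (R := k) ({mon ι b b} : Set (F × F → k))).trans (by simp)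
  · rw [if_neg hP]
    have h1 : ZT (rb ι 2 hs1 hb.le) = ⊥ := by
      rw [eq_bot_iff]
      intro c hc
      obtain ⟨γ, h2, h3⟩ := hval c hc
      rw [h2 (by simpa using hP), zero_smul] at h3
      exact (Submodule.mem_bot k).2 (hzero c hc h3)
    rw [h1, finrank_bot]

end SixtyFour

/-- the trivial module -/
theorem Z1_triv {V : Type*} [AddCommGroup V] [Module k V] (ρ : Representation k (_root_.Matrix.SpecialLinearGroup (Fin 2) F) V)
    (hq2 : 2 < Fintype.card F) (ht : ∀ g, ρ g = 1) (c : Z1 ρ) : c = 0 := by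
  have hmul : ∀ g g', c.1 (g * g') = c.1 g + c.1 g' := by
    intro g g'
    rw [c.2, ht]
    rfl
  have h2 : ∀ v : V, v + v = 0 := by
    intro v
    rw [← two_smul k v, CharTwo.two_eq_zero, zero_smul]
  have hh : ∀ a : Fˣ, c.1 (h a) = 0 := by
    intro a
    have h1 : ∀ n : ℕ, c.1 (h a ^ n) = n • c.1 (h a) := by
      intro n
      induction n with
      | zero => rw [pow_zero, zero_smul]; exact Z1_one ρ c
      | succ n ih => rw [pow_succ, hmul, ih, succ_nsmul]
    have h3 := h1 (Fintype.card F - 1)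
    rw [← h_pow, show a ^ (Fintype.card F - 1) = 1 by
      rw [← Fintype.card_units]; exact pow_card_eq_one, h_one, Z1_one ρ c, ← Nat.cast_smul_eq_nsmul k] at h3
    exact (smul_eq_zero.1 h3.symm).resolve_left cast_N
  have huu : ∀ s t : F, s ≠ 0 → t ≠ 0 → c.1 (u s) = c.1 (u t) := by
    intro s t hs ht0
    obtain ⟨a, ha⟩ := FiniteField.isSquare_of_char_two (F := F) (ringChar.eq_iff.2 inferInstance) (s / t)
    have ha0 : a ≠ 0 := by
      rintro rfl
      rw [mul_zero] at ha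
      exact (div_ne_zero hs ht0) ha
    have h1 := h_u (Units.mk0 a ha0) t
    have h3 := congrArg c.1 h1
    rw [hmul, hmul, hh, zero_add, add_zero, Units.val_mk0, sq, ← ha, div_mul_cancel₀ s ht0] at h3
    exact h3.symm
  have hu1 : c.1 (u 1) = 0 := by
    -- an element different from 0 and 1
    obtain ⟨s, hs⟩ : ∃ s : F, s ∉ ({0, 1} : Finset F) := by
      by_contra hcon
      push Not at hcon
      have h1 : (Finset.univ : Finset F) ⊆ {0, 1} := fun x _ => hcon x
      have h3 := (Finset.card_le_card h1).trans Finset.card_le_two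
      rw [Finset.card_univ] at h3
      omega
    rw [Finset.mem_insert, Finset.mem_singleton, not_or] at hs
    have h1 : c.1 (u (s + 1)) = c.1 (u s) + c.1 (u 1) := by rw [u_add, hmul]
    have hs1 : s + 1 ≠ 0 := by
      intro h0
      apply hs.2
      rw [← CharTwo.neg_eq (1 : F)]
      exact eq_neg_of_add_eq_zero_left h0
    rw [huu (s + 1) 1 hs1 one_ne_zero, huu s 1 hs.1 one_ne_zero, h2] at h1
    exact h1
  have hu : ∀ t : F, c.1 (u t) = 0 := by
    intro t
    by_cases ht0 : t = 0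
    · rw [ht0, u_zero]; exact Z1_one ρ c
    · rw [huu t 1 ht0 one_ne_zero, hu1]
  have hw : c.1 w = 0 := by
    have h1 := congrArg c.1 (w_u_w (1 : F) one_ne_zero)
    simp only [hmul, hu, hh, add_zero, zero_add, h2] at h1
    exact h1.symm
  apply Subtype.ext
  funext g
  show c.1 g = 0
  refine induct (P := fun g => c.1 g = 0) hu hh hw ?_ g
  intro a b ha hb
  show c.1 (a * b) = 0
  rw [hmul, ha, hb, add_zero]

theorem rb_zero_triv (hs1 : (-1 : k) ^ (Fintype.card F - 1) = 1) (g : _root_.Matrix.SpecialLinearGroup (Fin 2) F) :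
    rb ι 2 hs1 (Nat.zero_le _) g = 1 := by
  apply LinearMap.ext
  intro x
  apply Subtype.ext
  show fRep k F g (x : F × F → k) = x
  obtain ⟨c, hc⟩ := mem_span_mon ι (Vb_le ι 0 x.2)
  rw [hc, map_sum]
  refine Finset.sum_congr rfl fun m hm => ?_
  have hm0 : m = 0 := by
    have := Finset.mem_range.1 hm
    omega
  rw [hm0, map_smul]
  congr 1
  funext z
  show ι _ ^ 0 * ι _ ^ (0 - 0) = ι z.1 ^ 0 * ι z.2 ^ (0 - 0)
  rw [pow_zero, pow_zero, pow_zero, pow_zero]

/-- the values on a line, for `V_{q - 1}` -/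
theorem exists_line (hι : Function.Injective ι) (hs1 : (-1 : k) ^ (Fintype.card F - 1) = 1) (φ : F → k) :
    ∃ v : Vb ι (Fintype.card F - 1), ∀ y : F, (v : F × F → k) (1, y) = φ y := by
  let f : Vb ι (Fintype.card F - 1) →ₗ[k] (F → k) :=
    { toFun := fun v y => ((v : F × F → k) (1, y) :)
      map_add' := fun _ _ => rfl
      map_smul' := fun _ _ => rfl }
  have hqp : 0 < Fintype.card F := Fintype.card_pos
  have hinj : Function.Injective f := by
    refine (injective_iff_map_eq_zero f).2 fun v hv => ?_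
    obtain ⟨c, hc⟩ := mem_span_mon ι (Vb_le ι _ v.2)
    have h1 := mon_indep ι hι (b := Fintype.card F - 1) (by omega) c (by
      intro y
      have h2 := congrFun hv y
      have h3 : (v : F × F → k) (1, y) = 0 := h2
      rw [hc, Finset.sum_apply] at h3
      exact h3)
    apply Subtype.ext
    rw [hc]
    refine Finset.sum_eq_zero fun m hm => ?_
    rw [h1 m (Nat.lt_succ_iff.1 (Finset.mem_range.1 hm)), zero_smul]
  have hfr : Module.finrank k (Vb ι (Fintype.card F - 1)) = Module.finrank k (F → k) := by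
    rw [finrank_Vb ι 2 hι hs1 le_rfl, Module.finrank_fintype_fun_eq_card]
    have h3 : Bf k (Fintype.card F - 1) = Finset.range (Fintype.card F) := by
      have h4 : Fintype.card F - 1 + 1 = Fintype.card F := Nat.sub_add_cancel hqp
      unfold Bf
      rw [h4]
      refine Finset.filter_true_of_mem fun m hm => ?_
      have hm' := Finset.mem_range.1 hm
      obtain ⟨n, -, hn⟩ := FiniteField.card F 2
      have key : ∀ n m : ℕ, m < 2 ^ n → (((2 ^ n - 1).choose m : ℕ) : k) = 1 := by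
        intro n
        induction n with
        | zero =>
          intro m hm
          have : m = 0 := by omega
          subst this
          simp
        | succ n ih =>
          intro m hm
          have hp : 0 < 2 ^ n := by positivity
          have h5 : 2 ^ (n + 1) - 1 = 2 * (2 ^ n - 1) + 1 := by rw [pow_succ]; omega
          obtain ⟨i, rfl | rfl⟩ := Nat.even_or_odd' m
          · rw [h5, ch10]
            exact ih i (by rw [pow_succ] at hm; omega)
          · rw [h5, ch11]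
            exact ih i (by rw [pow_succ] at hm; omega)
      rw [hn] at hm' ⊢
      rw [key _ _ hm']
      exact one_ne_zero
    rw [h3, Finset.card_range]
  obtain ⟨v, hv⟩ := (LinearMap.injective_iff_surjective_of_finrank_eq_finrank hfr).1 hinj φ
  exact ⟨v, fun y => congrFun hv y⟩

theorem ext_line (hι : Function.Injective ι) {v v' : Vb ι (Fintype.card F - 1)}
    (h : ∀ y : F, (v : F × F → k) (1, y) = (v' : F × F → k) (1, y)) : v = v' := by
  have hqp : 0 < Fintype.card F := Fintype.card_pos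
  rw [← sub_eq_zero]
  obtain ⟨c, hc⟩ := mem_span_mon ι (Vb_le ι _ (v - v').2)
  have h1 := mon_indep ι hι (b := Fintype.card F - 1) (by omega) c (by
    intro y
    have h3 : ((v - v' : Vb ι (Fintype.card F - 1)) : F × F → k) (1, y) = 0 := by
      show (v : F × F → k) (1, y) - (v' : F × F → k) (1, y) = 0
      rw [h y, sub_self]
    rw [hc, Finset.sum_apply] at h3
    exact h3)
  apply Subtype.ext
  rw [hc]
  refine Finset.sum_eq_zero fun m hm => ?_
  rw [h1 m (Nat.lt_succ_iff.1 (Finset.mem_range.1 hm)), zero_smul]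

/-- the unipotent subgroup -/
def UG (F : Type*) [Field F] : Subgroup (_root_.Matrix.SpecialLinearGroup (Fin 2) F) where
  carrier := Set.range u
  one_mem' := ⟨0, u_zero⟩
  mul_mem' := by
    rintro _ _ ⟨s, rfl⟩ ⟨t, rfl⟩
    exact ⟨s + t, u_add s t⟩
  inv_mem' := by
    rintro _ ⟨s, rfl⟩
    exact ⟨-s, u_neg s⟩

theorem u_inj {s t : F} (h : u s = u t) : s = t := by
  have h1 := congrArg (fun g : _root_.Matrix.SpecialLinearGroup (Fin 2) F => g.1 0 1) h
  exact h1

theorem index_UG : ((UG F).index : k) ≠ 0 := by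
  rw [Ne, CharP.cast_eq_zero_iff k 2]
  have h1 : Nat.card (UG F) = Fintype.card F := by
    have e : F ≃ UG F := Equiv.ofBijective (fun t => ⟨u t, t, rfl⟩) ⟨fun s t h => u_inj (congrArg Subtype.val h), by
      rintro ⟨_, t, rfl⟩
      exact ⟨t, rfl⟩⟩
    rw [← Nat.card_congr e, Nat.card_eq_fintype_card]
  have h2 := (UG F).card_mul_index
  rw [Cfsg.Agent.ClassicalGeometry.PSL2Basic.card_SL2, h1] at h2
  have hqp : 0 < Fintype.card F := Fintype.card_pos
  have h3 : (UG F).index = Fintype.card F ^ 2 - 1 := Nat.eq_of_mul_eq_mul_left hqp h2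
  rw [h3]
  obtain ⟨n, -, hn⟩ := FiniteField.card F 2
  have h4 : 2 ∣ Fintype.card F ^ 2 := by
    rw [hn]
    exact dvd_pow (dvd_pow_self 2 n.2.ne') two_ne_zero
  have h5 : 0 < Fintype.card F ^ 2 := by positivity
  omega

/-- the Steinberg module has only coboundaries -/
theorem cob_St (hι : Function.Injective ι) (hs1 : (-1 : k) ^ (Fintype.card F - 1) = 1)
    (c : Z1 (rb ι 2 hs1 le_rfl)) : ∃ v, c = cob _ v := by
  -- on the unipotent subgroup
  obtain ⟨v, hv⟩ := exists_line ι hι hs1 (fun y => ((c.1 (u y) : F × F → k) (1, 0) :))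
  have h1 : ∀ s, c.1 (u s) = rb ι 2 hs1 le_rfl (u s) v - v := by
    intro s
    apply ext_line ι hι
    intro y
    have h2 := c.2 (u y) (u s)
    rw [← u_add] at h2
    have h3 : (c.1 (u (y + s)) : F × F → k) (1, 0) = (c.1 (u y) : F × F → k) (1, 0) +
        fRep k F (u y) (c.1 (u s) : F × F → k) (1, 0) := congrFun (congrArg Subtype.val h2) (1, 0)
    rw [fRep_u, one_mul, add_zero] at h3
    have h4 : ((rb ι 2 hs1 le_rfl (u s) v - v : Vb ι (Fintype.card F - 1)) : F × F → k) (1, y) =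
        fRep k F (u s) (v : F × F → k) (1, y) - (v : F × F → k) (1, y) := rfl
    rw [h4, fRep_u, one_mul, hv, hv, add_comm s y, h3]
    abel
  obtain ⟨v', hv'⟩ := cob_of_res (rb ι 2 hs1 le_rfl) (UG F) index_UG (c - cob _ v).2 (by
    rintro _ ⟨s, rfl⟩
    show c.1 (u s) - (rb ι 2 hs1 le_rfl (u s) v - v) = 0
    rw [h1, sub_self])
  refine ⟨v + v', ?_⟩
  rw [map_add]
  apply Subtype.ext
  funext g
  have h2 := hv' g
  have h3 : c.1 g - (cob (rb ι 2 hs1 le_rfl) v).1 g = (cob (rb ι 2 hs1 le_rfl) v').1 g := h2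
  show c.1 g = (cob (rb ι 2 hs1 le_rfl) v).1 g + (cob (rb ι 2 hs1 le_rfl) v').1 g
  rw [← h3]
  abel

/-- the exponents occurring in `V_b`, `b < 64` -/
def Bn (b : ℕ) : Finset ℕ := (Finset.range (b + 1)).filter fun m => oc 6 b m = true

theorem Bf_eq {b : ℕ} (hb : b < 64) : Bf k b = Bn b := by
  unfold Bf Bn
  refine Finset.filter_congr fun m hm => ?_
  have hm' := Finset.mem_range.1 hm
  rw [oc_spec 6 b m (by norm_num; omega) (by norm_num; omega)]
  by_cases h : oc 6 b m = true <;> simp [h]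

/-- the bounds -/
def zb (b : ℕ) : ℕ := if b = 0 then 0 else (Bn b).card + (if isP b then 1 else 0)

/-- **`dim Z¹(SL₂(64), V_b) ≤ zb b`** -/
theorem finrank_Z1_rb (hq : Fintype.card F = 64) (hι : Function.Injective ι)
    (hs1 : (-1 : k) ^ (Fintype.card F - 1) = 1) {b : ℕ} (hb : b ≤ Fintype.card F - 1) :
    Module.finrank k (Z1 (rb ι 2 hs1 hb)) ≤ zb b := by
  unfold zb
  rcases Nat.eq_zero_or_pos b with rfl | hb0
  · rw [if_pos rfl]
    have h1 : ∀ c : Z1 (rb ι 2 hs1 hb), c = 0 := Z1_triv _ (by omega) (rb_zero_triv ι hs1)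
    have : Subsingleton (Z1 (rb ι 2 hs1 hb)) := ⟨fun x y => by rw [h1 x, h1 y]⟩
    rw [Module.finrank_zero_of_subsingleton]
  · rw [if_neg hb0.ne']
    rcases Nat.lt_or_ge b (Fintype.card F - 1) with hb' | hb'
    · have h1 := finrank_Z1_ZT (rb ι 2 hs1 hb) cast_N
      have h2 := finrank_ZT_le ι hq hι hs1 hb0 hb'
      rw [finrank_Vb ι 2 hι hs1 hb, Bf_eq (by omega)] at h1
      omega
    · have hbe : b = Fintype.card F - 1 := by omega
      subst hbe
      have h1 : LinearMap.range (cob (rb ι 2 hs1 hb)) = ⊤ := by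
        rw [eq_top_iff]
        intro c _
        obtain ⟨v, hv⟩ := cob_St ι hι hs1 c
        exact ⟨v, hv.symm⟩
      have h2 := LinearMap.finrank_range_le (cob (rb ι 2 hs1 hb))
      rw [h1, finrank_top, finrank_Vb ι 2 hι hs1 hb, Bf_eq (by omega)] at h2
      omega

end Cfsg.Agent.H179.SLC
end

-- part: H179/SLC/Mult
section
/-!
# Composition multiplicities for `SL₂(64)`, characteristic 2 (helper179)

`exists_isMult` : every finite-dimensional module over an algebraically closed field has a multiplicity function `n`: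
dimension, multiplicities of the eigenvalues of all semisimple elements, `Z¹`; `IsMult.pressure` :
`n 0 ≤ dim V ^ S + ∑_{i < 6} n (2 ^ i)`.
-/

set_option autoImplicit false
set_option linter.unusedSectionVars false

namespace Cfsg.Agent.H179.SLC

open Matrix Cfsg.Agent.H943.SL2Rel Cfsg.Agent.H943.RepAdd Cfsg.Agent.H943.SL2Mod

variable {k : Type*} [Field k] [CharP k 2] [DecidableEq k] {F : Type*} [Field F] [Fintype F] [DecidableEq F] [CharP F 2]
  (ι : F →+* k)

/-- the multiplicity of the eigenvalue `ν` of a semisimple element with the eigenvalue `ζ` on `V_b` -/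
def mf (b : ℕ) (ζ ν : k) : ℕ := ((Bn b).filter fun m => ζ ^ m * ζ⁻¹ ^ (b - m) = ν).card

/-- `n` is a multiplicity function of the module -/
structure IsMult {V : Type*} [AddCommGroup V] [Module k V] (ρ : Representation k (_root_.Matrix.SpecialLinearGroup (Fin 2) F) V)
    (n : ℕ → ℕ) : Prop where
  dim : Module.finrank k V = ∑ b ∈ Finset.range 64, n b * (Bn b).card
  eigen : ∀ (g : _root_.Matrix.SpecialLinearGroup (Fin 2) F) (ζ : k) (N : ℕ), IsSS ι g ζ → ζ ^ N = 1 → (N : k) ≠ 0 → ∀ ν : k, ν ^ N = 1 →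
    Module.finrank k (eig ρ g ν) = ∑ b ∈ Finset.range 64, n b * mf b ζ ν
  z1 : Module.finrank k (Z1 ρ) ≤ ∑ b ∈ Finset.range 64, n b * zb b

theorem IsMult.of_iso {V V₂ : Type*} [AddCommGroup V] [Module k V] [AddCommGroup V₂] [Module k V₂]
    {ρ : Representation k (_root_.Matrix.SpecialLinearGroup (Fin 2) F) V} {ρ₂ : Representation k (_root_.Matrix.SpecialLinearGroup (Fin 2) F) V₂}
    {n : ℕ → ℕ} (h : IsMult ι ρ n) (φ : V ≃ₗ[k] V₂) (hφ : ∀ g x, φ (ρ g x) = ρ₂ g (φ x)) : IsMult ι ρ₂ n where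
  dim := by rw [← φ.finrank_eq, h.dim]
  eigen := fun g ζ N hg h1 h2 ν hν => by rw [← finrank_eig_iso ρ ρ₂ φ hφ, h.eigen g ζ N hg h1 h2 ν hν]
  z1 := by rw [← finrank_Z1_iso ρ ρ₂ φ hφ]; exact h.z1

theorem pow_eq_one_of_isSS (hι : Function.Injective ι) {g : _root_.Matrix.SpecialLinearGroup (Fin 2) F} {ζ : k} (hg : IsSS ι g ζ)
    {N : ℕ} (h : ζ ^ N = 1) : g ^ N = 1 := by
  have h1 := hg.pow ι N
  rw [h] at h1
  exact h1.eq_one ι hι

/-- additivity -/
theorem IsMult.add (hι : Function.Injective ι) {V : Type*} [AddCommGroup V] [Module k V] [FiniteDimensional k V]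
    {ρ : Representation k (_root_.Matrix.SpecialLinearGroup (Fin 2) F) V} {W : Submodule k V} {hW : ∀ g, ∀ x ∈ W, ρ g x ∈ W}
    {n₁ n₂ : ℕ → ℕ} (h1 : IsMult ι (subRep ρ W hW) n₁) (h2 : IsMult ι (quotRep ρ W hW) n₂) : IsMult ι ρ (n₁ + n₂) where
  dim := by
    rw [← Submodule.finrank_quotient_add_finrank W, h1.dim, h2.dim, ← Finset.sum_add_distrib]
    refine Finset.sum_congr rfl fun b _ => ?_
    rw [Pi.add_apply]
    ring
  eigen := fun g ζ N hg hζ hN ν hν => by
    have hν0 : ν ≠ 0 := by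
      rintro rfl
      by_cases hN0 : N = 0
      · exact hN (by rw [hN0, Nat.cast_zero])
      · rw [zero_pow hN0] at hν
        exact zero_ne_one hν
    rw [finrank_eig ρ W hW (g := g) (n := N) (by rw [← map_pow, pow_eq_one_of_isSS ι hι hg hζ, map_one]) hN hν hν0,
      h1.eigen g ζ N hg hζ hN ν hν, h2.eigen g ζ N hg hζ hN ν hν, ← Finset.sum_add_distrib]
    refine Finset.sum_congr rfl fun b _ => ?_
    rw [Pi.add_apply]
    ring
  z1 := by
    refine (finrank_Z1_le ρ W hW).trans ((add_le_add h1.z1 h2.z1).trans_eq ?_)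
    rw [← Finset.sum_add_distrib]
    refine Finset.sum_congr rfl fun b _ => ?_
    rw [Pi.add_apply]
    ring

theorem sum_single {b : ℕ} (hb : b < 64) (f : ℕ → ℕ) : ∑ c ∈ Finset.range 64, (Pi.single b 1 : ℕ → ℕ) c * f c = f b := by
  rw [Finset.sum_eq_single b]
  · rw [Pi.single_eq_same, one_mul]
  · intro c _ hc
    rw [Pi.single_eq_of_ne hc, zero_mul]
  · intro h
    exact absurd (Finset.mem_range.2 hb) h

theorem isMult_rb (hq : Fintype.card F = 64) (hι : Function.Injective ι)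
    (hs1 : (-1 : k) ^ (Fintype.card F - 1) = 1) {b : ℕ} (hb : b ≤ Fintype.card F - 1) :
    IsMult ι (rb ι 2 hs1 hb) (Pi.single b 1) where
  dim := by rw [sum_single (by omega), finrank_Vb ι 2 hι hs1 hb, Bf_eq (by omega)]
  eigen := fun g ζ N hg hζ hN ν hν => by
    rw [sum_single (by omega), finrank_eig_ss ι hι hs1 hb hg, Bf_eq (by omega)]
    rfl
  z1 := by
    rw [sum_single (by omega)]
    exact finrank_Z1_rb ι hq hι hs1 hb

theorem isMult_zero {V : Type*} [AddCommGroup V] [Module k V] [Subsingleton V]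
    (ρ : Representation k (_root_.Matrix.SpecialLinearGroup (Fin 2) F) V) : IsMult ι ρ 0 where
  dim := by rw [Module.finrank_zero_of_subsingleton]; simp
  eigen := fun g ζ N hg hζ hN ν hν => by rw [Module.finrank_zero_of_subsingleton]; simp
  z1 := by
    have : Subsingleton (Z1 ρ) := ⟨fun x y => Subtype.ext (funext fun g => Subsingleton.elim _ _)⟩
    rw [Module.finrank_zero_of_subsingleton]
    exact Nat.zero_le _

/-- `-1 = 1` -/
theorem hs_one : (-1 : k) ^ (Fintype.card F - 1) = 1 := by rw [CharTwo.neg_eq, one_pow]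

/-- **the pressure inequality** -/
theorem IsMult.pressure {V : Type*} [AddCommGroup V] [Module k V] [FiniteDimensional k V]
    {ρ : Representation k (_root_.Matrix.SpecialLinearGroup (Fin 2) F) V} {n : ℕ → ℕ} (h : IsMult ι ρ n) :
    n 0 ≤ Module.finrank k (fx ρ) + (n 1 + n 2 + n 4 + n 8 + n 16 + n 32) := by
  have h1 := finrank_le ρ
  have h2 := h.z1
  rw [h.dim] at h1
  have h3 : ∑ b ∈ Finset.range 64, n b * zb b + n 0 = ∑ b ∈ Finset.range 64, n b * (Bn b).card +
      (n 1 + n 2 + n 4 + n 8 + n 16 + n 32) := by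
    have h4 : ∀ b ∈ Finset.range 64, n b * zb b + (if b = 0 then n 0 else 0) =
        n b * (Bn b).card + (if isP b = true then n b else 0) := by
      intro b _
      unfold zb
      by_cases hb : b = 0
      · subst hb
        rw [if_pos rfl, if_pos rfl]
        have h5 : (Bn 0).card = 1 := by decide
        have h6 : isP 0 = false := by decide
        rw [h5, h6]
        simp
      · rw [if_neg hb, if_neg hb]
        by_cases hp : isP b = true
        · rw [if_pos hp, if_pos hp]; ring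
        · rw [if_neg hp, if_neg hp]; ring
    have h5 := Finset.sum_congr rfl h4
    rw [Finset.sum_add_distrib, Finset.sum_add_distrib, Finset.sum_ite_eq', if_pos (Finset.mem_range.2 (by norm_num))] at h5
    have h6 : (Finset.range 64).filter (fun b => isP b = true) = {1, 2, 4, 8, 16, 32} := by decide +kernel
    have h7 : ∑ b ∈ Finset.range 64, (if isP b = true then n b else 0) = n 1 + n 2 + n 4 + n 8 + n 16 + n 32 := by
      rw [← Finset.sum_filter, h6, Finset.sum_insert (by decide), Finset.sum_insert (by decide),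
        Finset.sum_insert (by decide), Finset.sum_insert (by decide), Finset.sum_insert (by decide), Finset.sum_singleton]
      ring
    rw [h5, h7]
  omega

variable [IsAlgClosed k]

universe v

/-- **every module has a multiplicity function** -/
theorem exists_isMult (hq : Fintype.card F = 64) (hι : Function.Injective ι) {V : Type v} [AddCommGroup V] [Module k V]
    [FiniteDimensional k V] (ρ : Representation k (_root_.Matrix.SpecialLinearGroup (Fin 2) F) V) : ∃ n : ℕ → ℕ, IsMult ι ρ n := by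
  have key : ∀ (d : ℕ) (V : Type v) [AddCommGroup V] [Module k V] [FiniteDimensional k V]
      (ρ : Representation k (_root_.Matrix.SpecialLinearGroup (Fin 2) F) V) (_ : Module.finrank k V = d), ∃ n : ℕ → ℕ, IsMult ι ρ n := by
    intro d
    induction d using Nat.strong_induction_on with
    | _ d ih =>
      intro V _ _ _ ρ hd
      rcases subsingleton_or_nontrivial V with hV | hV
      · exact ⟨0, isMult_zero ι ρ⟩
      · obtain ⟨W, hW, hW0, hmin⟩ := exists_irr_sub ρ
        have hIW : Irr (subRep ρ W hW) := by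
          refine ⟨Submodule.nontrivial_iff_ne_bot.2 hW0, fun W' hW' => ?_⟩
          rcases hmin (W'.map W.subtype) (Submodule.map_subtype_le _ _) (by
            rintro g _ ⟨x, hx, rfl⟩
            exact ⟨_, hW' g x hx, rfl⟩) with h1 | h1
          · left
            rw [eq_bot_iff]
            intro x hx
            have h2 : (x : V) ∈ W'.map W.subtype := ⟨x, hx, rfl⟩
            rw [h1] at h2
            exact (Submodule.mem_bot k).2 (Subtype.ext ((Submodule.mem_bot k).1 h2))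
          · right
            rw [eq_top_iff]
            intro x _
            have h2 : (x : V) ∈ W'.map W.subtype := by rw [h1]; exact x.2
            obtain ⟨y, hy, e⟩ := h2
            rwa [← Subtype.ext (p := fun z => z ∈ W) e]
        have hpos : 0 < Module.finrank k W := by
          have := hIW.1
          exact Module.finrank_pos
        have hadd := Submodule.finrank_quotient_add_finrank W
        obtain ⟨n₂, h2⟩ := ih (Module.finrank k (V ⧸ W)) (by omega) (V ⧸ W) (quotRep ρ W hW) rfl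
        obtain ⟨b, hb, φ, hφ⟩ := irr_iso ι 2 (subRep ρ W hW) hι hs_one hIW
        exact ⟨_, ((isMult_rb ι hq hι hs_one hb).of_iso ι φ hφ).add ι hι h2⟩
  exact key _ V ρ rfl

/-- the submodule version -/
theorem exists_isMult_sub (hq : Fintype.card F = 64) (hι : Function.Injective ι) {V : Type v} [AddCommGroup V] [Module k V]
    [FiniteDimensional k V] (ρ : Representation k (_root_.Matrix.SpecialLinearGroup (Fin 2) F) V) (W : Submodule k V)
    (hW : ∀ g, ∀ x ∈ W, ρ g x ∈ W) : ∃ n₁ n₂ : ℕ → ℕ, IsMult ι (subRep ρ W hW) n₁ ∧ IsMult ι (quotRep ρ W hW) n₂ ∧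
      IsMult ι ρ (n₁ + n₂) := by
  obtain ⟨n₁, h1⟩ := exists_isMult ι hq hι (subRep ρ W hW)
  obtain ⟨n₂, h2⟩ := exists_isMult ι hq hι (quotRep ρ W hW)
  exact ⟨n₁, n₂, h1, h2, h1.add ι hι h2⟩

end Cfsg.Agent.H179.SLC
end

-- part: H179/SLC/Iface
section
/-!
# S5915: the pieces R1, R2, R3a, R4a, R4b in the language of `H939/L64/DefR.lean` (helper179)
-/

set_option autoImplicit false
set_option linter.unusedSectionVars false

namespace Cfsg.Agent.H179.SLC

open Matrix Cfsg.Agent.H943.SL2Rel Cfsg.Agent.H943.RepAdd Cfsg.Agent.H943.SL2Mod Cfsg.Agent.H939.L64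

theorem card_filter_range (n : ℕ) (p : ℕ → Bool) :
    ((Finset.range n).filter (fun m => p m = true)).card = ((List.range n).filter p).length := by
  rw [Finset.card_def, Finset.filter_val]
  show Multiset.card (Multiset.filter _ (↑(List.range n) : Multiset ℕ)) = _
  rw [Multiset.filter_coe, Multiset.coe_card]
  congr 1
  exact List.filter_congr fun x _ => by simp

private noncomputable def _root_.Cfsg.Agent.KO3180642.k16 : type_of% @Nat.decEq := @(fun x0 x1 => @Bool.rec.{1} @(fun x2 => (@Eq.{1} _ (@Nat.beq @x0 @x1) @x2) → @Decidable (@Eq.{1} _ @x0 @x1)) @(fun x2 => @Decidable.isFalse _ (@Nat.ne_of_beq_eq_false _ _ @x2)) @(fun x2 => @Decidable.isTrue _ (@Nat.eq_of_beq_eq_true _ _ @x2)) (@Nat.beq @x0 @x1) (@Eq.refl.{1} _ (@Nat.beq @x0 @x1)))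
private theorem _root_.Cfsg.Agent.KO3180642.e16 : @Nat.decEq = @_root_.Cfsg.Agent.KO3180642.k16 := by delta _root_.Cfsg.Agent.KO3180642.k16; rfl'
private noncomputable def _root_.Cfsg.Agent.KO3180642.k17 : type_of% @instDecidableEqNat := @Cfsg.Agent.KO3180642.k16
private theorem _root_.Cfsg.Agent.KO3180642.e17 : @instDecidableEqNat = @_root_.Cfsg.Agent.KO3180642.k17 := by delta _root_.Cfsg.Agent.KO3180642.k17; rewrite [← Cfsg.Agent.KO3180642.e16]; rfl'
private noncomputable def _root_.Cfsg.Agent.KO3180642.k19 : type_of% @Decidable.decide := @(fun x0 x1 => @Decidable.rec.{1} _ @(fun x2 => @Bool) @(fun x2 => @Bool.false) @(fun x2 => @Bool.true) @x1)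
private theorem _root_.Cfsg.Agent.KO3180642.e19 : @Decidable.decide = @_root_.Cfsg.Agent.KO3180642.k19 := by delta _root_.Cfsg.Agent.KO3180642.k19; rfl'
private noncomputable def _root_.Cfsg.Agent.KO3180642.k20l (n : Nat) (P : ∀ k, k < n → Prop) (H : ∀ k h, Decidable (P k h)) (m : Nat) : m ≤ n → Bool := @Nat.rec (fun m => m ≤ n → Bool) (fun _ => true) (fun k ih h => @Decidable.rec (P k h) (fun _ => Bool) (fun _ => false) (fun _ => ih (Nat.le_of_succ_le h)) (H k h)) m
private theorem _root_.Cfsg.Agent.KO3180642.k20ls (n : Nat) (P : ∀ k, k < n → Prop) (H : ∀ k h, Decidable (P k h)) (m : Nat) : ∀ h : m ≤ n, _root_.Cfsg.Agent.KO3180642.k20l n P H m h = true ↔ ∀ k (g : k < m), P k (Nat.lt_of_lt_of_le g h) := by induction m with | zero => exact fun _ => ⟨fun _ _ g => absurd g (Nat.not_lt_zero _), fun _ => rfl⟩ | succ m ih => intro h; show @Decidable.rec (P m h) (fun _ => Bool) (fun _ => false) (fun _ => _root_.Cfsg.Agent.KO3180642.k20l n P H m (Nat.le_of_succ_le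 h)) (H m h) = true ↔ _; cases H m h with | isFalse q => exact ⟨fun g => absurd g Bool.false_ne_true, fun g => absurd (g m (Nat.lt_succ_self m)) q⟩ | isTrue q => exact ⟨fun g k hk => (Nat.lt_succ_iff_lt_or_eq.1 hk).elim ((ih _).1 g k) fun e => by subst e; exact q, fun g => (ih _).2 fun k hk => g k (Nat.lt_succ_of_lt hk)⟩
private noncomputable def _root_.Cfsg.Agent.KO3180642.k20 (n : Nat) (P : ∀ k, k < n → Prop) (H : ∀ k h, Decidable (P k h)) : Decidable (∀ k h, P k h) := @Bool.rec (fun b => _root_.Cfsg.Agent.KO3180642.k20l n P H n (Nat.le_refl n) = b → Decidable (∀ k h, P k h)) (fun g => isFalse fun q => Bool.false_ne_true (g.symm.trans ((_root_.Cfsg.Agent.KO3180642.k20ls n P H n _).2 fun k h => q k h))) (fun g => isTrue fun k h => (_root_.Cfsg.Agent.KO3180642.k20ls n P H n _).1 g k h) (_root_.Cfsg.Agent.KO3180642.k20l n P H n (Nat.le_refl n)) rfl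
private theorem _root_.Cfsg.Agent.KO3180642.e20 : @Nat.decidableBallLT = @_root_.Cfsg.Agent.KO3180642.k20 := funext fun _ => funext fun _ => funext fun _ => Subsingleton.elim _ _

theorem oc_land : ∀ b < 64, ∀ m < 64, oc 6 b m = ((m &&& b) == m) := by (first | (refine of_decide_eq_true ?_; rewrite [Cfsg.Agent.KO3180642.e19, Cfsg.Agent.KO3180642.e20, Cfsg.Agent.KO3180642.e12, Cfsg.Agent.KO3180642.e6, Cfsg.Agent.KO3180642.e17]; decide +kernel) | decide +kernel)

theorem length_subm {b : ℕ} (hb : b < 64) (p : ℕ → Bool) :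
    ((subm b).filter p).length = ((Bn b).filter fun m => p m = true).card := by
  unfold subm Bn
  rw [List.filter_filter, Finset.filter_filter, ← card_filter_range]
  congr 1
  refine Finset.filter_congr fun m hm => ?_
  have hm' := Finset.mem_range.1 hm
  rw [oc_land b hb m (by omega)]
  simp [and_comm]

section Weights

variable {k : Type*} [Field k] [DecidableEq k]

theorem mf_eq {ζ : k} {N : ℕ} (hN : 2 ≤ N) (hζ : IsPrimitiveRoot ζ N) {b j : ℕ} (hb : b < 64) (hj : j < N) :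
    mf b ζ (ζ ^ j) = ((subm b).filter fun m => (2 * m + (N - 1) * b) % N == j).length := by
  rw [length_subm hb]
  unfold mf
  congr 1
  refine Finset.filter_congr fun m hm => ?_
  have hmb : m ≤ b := by
    have := Finset.mem_range.1 (Finset.mem_filter.1 hm).1
    omega
  have h1 : ζ ^ m * ζ⁻¹ ^ (b - m) = ζ ^ ((2 * m + (N - 1) * b) % N) := by
    have h2 : ζ⁻¹ = ζ ^ (N - 1) := by
      symm
      apply eq_inv_of_mul_eq_one_left
      rw [← pow_succ, Nat.sub_add_cancel (by omega), hζ.pow_eq_one]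
    have hmod : ∀ x : ℕ, ζ ^ x = ζ ^ (x % N) := by
      intro x
      conv_lhs => rw [← Nat.div_add_mod x N, pow_add, pow_mul, hζ.pow_eq_one, one_pow, one_mul]
    rw [h2, ← pow_mul, ← pow_add, hmod]
    congr 1
    obtain ⟨i, rfl⟩ := Nat.exists_eq_add_of_le hmb
    obtain ⟨M, rfl⟩ := Nat.exists_eq_add_of_le hN
    rw [Nat.add_sub_cancel_left]
    have h3 : 2 * m + (2 + M - 1) * (m + i) = (m + (2 + M - 1) * i) + (2 + M) * m := by
      have h4 : 2 + M - 1 = M + 1 := by omega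
      rw [h4]
      ring
    rw [h3, Nat.add_mul_mod_self_left]
  rw [h1]
  simp only [beq_iff_eq]
  constructor
  · intro h
    exact hζ.pow_inj (Nat.mod_lt _ (by omega)) hj h
  · intro h
    rw [h]

end Weights

/-- the characteristic of `F` -/
theorem charF {k F : Type*} [Field k] [CharP k 2] [Field F] (ι : F →+* k) : CharP F 2 :=
  (RingHom.charP_iff ι ι.injective 2).2 inferInstance

section Cases

variable {k : Type*} [Field k] [CharP k 2] [DecidableEq k] {F : Type*} [Field F] [Fintype F] [DecidableEq F] [CharP F 2]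
  (ι : F →+* k)

end Cases

section Transfer

variable {k : Type*} [Field k] [CharP k 2] {F : Type*} [Field F] [Fintype F] [DecidableEq F] [CharP F 2]
  (ι : F →+* k) {V : Type*} [AddCommGroup V] [Module k V] {ρ : Representation k (_root_.Matrix.SpecialLinearGroup (Fin 2) F) V}

theorem isV_of_equiv (hs1 : (-1 : k) ^ (Fintype.card F - 1) = 1) {b : ℕ} (hb : b ≤ Fintype.card F - 1) {W : Submodule k V}
    {hW : ∀ g, ∀ x ∈ W, ρ g x ∈ W} (φ : Vb ι b ≃ₗ[k] W) (hφ : ∀ g x, φ (rb ι 2 hs1 hb g x) = subRep ρ W hW g (φ x)) :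
    IsV ι b ρ W := by
  obtain ⟨ψ, hψ⟩ := LinearMap.exists_extend (W.subtype.comp (φ : Vb ι b →ₗ[k] W))
  have h1 : ∀ f (hf : f ∈ Vb ι b), ψ f = (φ ⟨f, hf⟩ : V) := fun f hf => LinearMap.congr_fun hψ ⟨f, hf⟩
  refine ⟨ψ, fun g f hf => ?_, ?_, fun f hf h0 => ?_⟩
  · have h2 : fRep k F g f ∈ Vb ι b := inv_Vb ι 2 hs1 hb g f hf
    refine ⟨h2, ?_⟩
    rw [h1 _ h2, h1 _ hf]
    exact congrArg Subtype.val (hφ g ⟨f, hf⟩)
  · ext x
    constructor
    · rintro ⟨f, hf, rfl⟩
      rw [h1 f hf]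
      exact (φ ⟨f, hf⟩).2
    · intro hx
      refine ⟨(φ.symm ⟨x, hx⟩ : F × F → k), (φ.symm ⟨x, hx⟩).2, ?_⟩
      rw [h1 _ (φ.symm ⟨x, hx⟩).2]
      exact congrArg Subtype.val (φ.apply_symm_apply ⟨x, hx⟩)
  · rw [h1 f hf] at h0
    have h2 : φ ⟨f, hf⟩ = 0 := Subtype.ext h0
    have h3 := (LinearEquiv.map_eq_zero_iff φ).1 h2
    exact congrArg Subtype.val h3

theorem exists_equiv (hs1 : (-1 : k) ^ (Fintype.card F - 1) = 1) {b : ℕ} (hb : b ≤ Fintype.card F - 1) {W : Submodule k V}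
    (hW : ∀ g, ∀ x ∈ W, ρ g x ∈ W) (h : IsV ι b ρ W) :
    ∃ φ : Vb ι b ≃ₗ[k] W, ∀ g x, φ (rb ι 2 hs1 hb g x) = subRep ρ W hW g (φ x) := by
  obtain ⟨ψ, h1, h2, h3⟩ := h
  let f : Vb ι b →ₗ[k] W :=
    { toFun := fun x => ⟨(ψ x :), by rw [← h2]; exact ⟨x, x.2, rfl⟩⟩
      map_add' := fun x y => Subtype.ext (map_add ψ _ _)
      map_smul' := fun c x => Subtype.ext (map_smul ψ _ _) }
  have hf : Function.Bijective f := by
    constructor
    · refine (injective_iff_map_eq_zero f).2 fun x hx => ?_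
      exact Subtype.ext (h3 x x.2 (congrArg Subtype.val hx))
    · rintro ⟨x, hx⟩
      rw [← h2] at hx
      obtain ⟨z, hz, e⟩ := hx
      exact ⟨⟨z, hz⟩, Subtype.ext e⟩
  refine ⟨LinearEquiv.ofBijective f hf, fun g x => Subtype.ext ?_⟩
  exact (h1 g x x.2).2

end Transfer

section Main

variable {k : Type*} [Field k] [IsAlgClosed k] [CharP k 2] {F : Type*} [Field F] [Fintype F] [DecidableEq F] {ι : F →+* k}
  {lam : Fˣ} {y : _root_.Matrix.SpecialLinearGroup (Fin 2) F} {ζ : k}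

theorem isSS_y (D : Dat ι lam y ζ) : IsSS ι y ζ := by
  refine isSS_of_trace ι (D.prim.ne_zero (by norm_num)) D.tr fun h => ?_
  have h0 := D.prim.ne_zero (by norm_num)
  have h1 : ζ ^ 2 = 1 := by
    rw [sq]
    nth_rw 2 [h]
    exact mul_inv_cancel₀ h0
  have h2 := D.prim.dvd_of_pow_eq_one 2 h1
  omega

theorem prim_lam (D : Dat ι lam y ζ) : IsPrimitiveRoot (ι lam) 63 := by
  classical
  have h := primitive ι ι.injective D.gen
  rwa [D.card] at h

theorem isMult_specM (D : Dat ι lam y ζ) [DecidableEq k] {V : Type*} [AddCommGroup V] [Module k V]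
    {ρ : Representation k (_root_.Matrix.SpecialLinearGroup (Fin 2) F) V} {n : ℕ → ℕ} (h : IsMult ι ρ n) : SpecM ι ρ lam y ζ n := by
  constructor
  · intro j hj
    unfold e65
    rw [h.eigen y ζ 65 (isSS_y D) D.prim.pow_eq_one (by
      rw [Ne, CharP.cast_eq_zero_iff k 2]; norm_num) (ζ ^ j) (by
      rw [← pow_mul, mul_comm, pow_mul, D.prim.pow_eq_one, one_pow])]
    refine Finset.sum_congr rfl fun b hb => ?_
    rw [mf_eq (by norm_num) D.prim (Finset.mem_range.1 hb) hj]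
    rfl
  · intro j hj
    have hl := prim_lam D
    unfold e63
    rw [h.eigen (Cfsg.Agent.H943.SL2Rel.h lam) (ι lam) 63 (isSS_h ι lam) hl.pow_eq_one (by
      rw [Ne, CharP.cast_eq_zero_iff k 2]; norm_num) (ι lam ^ j) (by
      rw [← pow_mul, mul_comm, pow_mul, hl.pow_eq_one, one_pow])]
    refine Finset.sum_congr rfl fun b hb => ?_
    rw [mf_eq (by norm_num) hl (Finset.mem_range.1 hb) hj]
    rfl

universe v

/-- **R1** -/
theorem R1 (D : Dat ι lam y ζ) {V : Type v} [AddCommGroup V] [Module k V] [FiniteDimensional k V]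
    (ρ : Representation k (_root_.Matrix.SpecialLinearGroup (Fin 2) F) V) (hI : Irr ρ) : ∃ b < 64, IsV ι b ρ ⊤ := by
  classical
  have := charF ι
  obtain ⟨b, hb, φ, hφ⟩ := irr_iso ι 2 ρ ι.injective hs_one hI
  have hc := D.card
  refine ⟨b, by omega, isV_of_equiv ι hs_one hb (hW := fun _ _ _ => Submodule.mem_top)
    (φ.trans Submodule.topEquiv.symm) fun g x => Subtype.ext ?_⟩
  exact hφ g x

/-- **R2** -/
theorem R2 (D : Dat ι lam y ζ) {V : Type v} [AddCommGroup V] [Module k V] [FiniteDimensional k V]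
    (ρ : Representation k (_root_.Matrix.SpecialLinearGroup (Fin 2) F) V) (W : Submodule k V) (hW : ∀ g, ∀ x ∈ W, ρ g x ∈ W)
    {b : ℕ} (hb : b < 64) (h : IsV ι b ρ W) : (∀ j < 65, e65 (subRep ρ W hW) y ζ j = w65 b j) ∧
      ∀ j < 63, e63 ι (subRep ρ W hW) lam j = w63 b j := by
  classical
  have := charF ι
  have hc := D.card
  obtain ⟨φ, hφ⟩ := exists_equiv ι hs_one (by omega) hW h
  have h1 := isMult_specM D ((isMult_rb ι hc ι.injective hs_one (by omega)).of_iso ι φ hφ)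
  refine ⟨fun j hj => ?_, fun j hj => ?_⟩
  · rw [h1.1 j hj, sum_single hb]
  · rw [h1.2 j hj, sum_single hb]

/-- **R3a** -/
theorem R3a (D : Dat ι lam y ζ) {V : Type v} [AddCommGroup V] [Module k V] [FiniteDimensional k V]
    (ρ : Representation k (_root_.Matrix.SpecialLinearGroup (Fin 2) F) V) : ∃ m : ℕ → ℕ, SpecM ι ρ lam y ζ m := by
  classical
  have := charF ι
  obtain ⟨n, hn⟩ := exists_isMult ι D.card ι.injective ρ
  exact ⟨n, isMult_specM D hn⟩

/-- pressure, for some multiplicity function -/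
theorem exists_pressure (D : Dat ι lam y ζ) {V : Type v} [AddCommGroup V] [Module k V] [FiniteDimensional k V]
    (ρ : Representation k (_root_.Matrix.SpecialLinearGroup (Fin 2) F) V) : ∃ m : ℕ → ℕ, SpecM ι ρ lam y ζ m ∧
      m 0 ≤ Module.finrank k (fixS ρ) + ∑ i ∈ Finset.range 6, m (2 ^ i) := by
  classical
  have := charF ι
  obtain ⟨n, hn⟩ := exists_isMult ι D.card ι.injective ρ
  refine ⟨n, isMult_specM D hn, ?_⟩
  have h1 := hn.pressure
  have h2 : fx ρ = fixS ρ := rfl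
  rw [h2] at h1
  simpa only [Finset.sum_range_succ, _root_.Finset.range_one, _root_.Finset.sum_singleton, _root_.pow_zero, _root_.pow_one, _root_.Nat.reducePow, _root_.ge_iff_le] using h1

end Main

end Cfsg.Agent.H179.SLC
end

private theorem dce_c3bc6c3e3f18 : _root_.True := by
  try have : _root_.True := by simp only [_root_.Cfsg.Agent.H179.SLC.oc.eq_1]
  try have : _root_.True := by simp only [_root_.Cfsg.Agent.H179.SLC.chk.eq_def]
  try have : _root_.True := by simp only [_root_.Cfsg.Agent.H179.SLC.mf.congr_simp]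
  try have : _root_.True := by simp only [_root_.Cfsg.Agent.H179.SLC.oc.eq_2]
  try have : _root_.True := by simp only [_root_.Cfsg.Agent.H179.SLC.oc.eq_def]
  try have : _root_.True := by simp only [_root_.Cfsg.Agent.H943.SL2Rel.mi.congr_simp]
  exact _root_.True.intro
end
end
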